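import Cfsg.Agent.Lib.Fusion.ThreeTransfer.NoQuad

/-!
# Paths in the amalgam of a family without the companion hypothesis
-/

set_option autoImplicit false

open scoped commutatorElement

namespace Cfsg.Agent.PushUp.Fam

open Cfsg Cfsg.Agent.PushUp

universe u

variable {S : Type u} [Group S] {p : ℕ} {B : Leg S p → Prop}

/-- If no path has ends which do not commute, a characteristic subgroup is normal in every member. -/
theorem exists_closed_uB (htw : ∀ L σ, B L → B (L.twist σ))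
    (hcon : ∀ k, 1 ≤ k → ∀ d : ℕ → Dart B, Chain k d → (d 0).src (yI B) ≤ (d (k - 1)).tgt (qI B)) :
    ∃ X : Subgroup S, X.Characteristic ∧ uB B ≤ X ∧ ∀ i : Ix B, (X.map i.1.e).Normal := by
  let ι := {x : ℕ × (ℕ → Dart B) // 1 ≤ x.1 ∧ Chain x.1 x.2 ∧ (x.2 0).f = 1}
  set W : Subgroup (Amal B) := ⨆ i : ι, (i.1.2 (i.1.1 - 1)).tgt (yI B) with hW
  have hWle : ∀ α : Ix B, W ≤ (qI B α).map (emb 1 α) := fun α => iSup_le fun ⟨⟨k, d⟩, hk, hd, hf⟩ => by
    change (d 0).f = 1 at hf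
    let d' : ℕ → Dart B := fun i => if i = 0 then ⟨1, α, (d 0).r⟩ else d i
    have hd' : Chain k d' := fun i hi => by
      show Link (if i = 0 then _ else d i) (if i + 1 = 0 then _ else d (i + 1))
      rw [if_neg (show i + 1 ≠ 0 by omega)]
      by_cases hi0 : i = 0
      · subst hi0
        rw [if_pos rfl]
        obtain ⟨h1, g, h2⟩ := hd 0 hi
        exact ⟨h1, g, by rw [h2, hf]⟩
      · rw [if_neg hi0]
        exact hd i hi
    have h1 := hcon k hk (revD k d') hd'.reverse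
    change (d' (k - 1 - 0)).rev.src (yI B) ≤ (d' (k - 1 - (k - 1))).rev.tgt (qI B) at h1
    rw [Nat.sub_zero, Nat.sub_self] at h1
    change (d' (k - 1)).tgt (yI B) ≤ (qI B α).map (emb 1 α) at h1
    refine le_trans (le_of_eq ?_) h1
    show (d (k - 1)).tgt (yI B) = (d' (k - 1)).tgt (yI B)
    by_cases hk1 : k - 1 = 0
    · rw [hk1]
      show (yI B (d 0).r).map (emb (d 0).f (d 0).r) = (yI B (d 0).r).map (emb 1 (d 0).r)
      rw [hf]
    · simp only [d', if_neg hk1]
  have hWinv : ∀ (α : Ix B) (g : α.1.G) (x : Amal B), x ∈ W →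
      emb 1 α g * x * (emb 1 α g)⁻¹ ∈ W := by
    intro α g x hx
    have : W ≤ W.comap (MulAut.conj (emb (1 : Amal B) α g)).toMonoidHom := iSup_le fun ⟨⟨k, d⟩, hk, hd, hf⟩ => by
      rintro _ ⟨y, hy, rfl⟩
      change (d 0).f = 1 at hf
      set a := emb (1 : Amal B) α g with ha
      let dT : ℕ → Dart B := fun i => if i = 0 then ⟨a, α, (d 0).r⟩ else ⟨a * (d i).f, (d i).l, (d i).r⟩
      have hdT : Chain k dT := fun i hi => by
        show Link (if i = 0 then _ else _) (if i + 1 = 0 then _ else _)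
        rw [if_neg (show i + 1 ≠ 0 by omega)]
        obtain ⟨h1, g', h2⟩ := hd i hi
        by_cases hi0 : i = 0
        · subst hi0
          rw [if_pos rfl]
          exact ⟨h1, g', by show a * (d (0 + 1)).f = a * io (d 0).r g'; rw [h2, hf, one_mul]⟩
        · rw [if_neg hi0]
          exact ⟨h1, g', by show a * (d (i + 1)).f = a * (d i).f * io (d i).r g'; rw [h2, mul_assoc]⟩
      have hl : Link (⟨1, α, α⟩ : Dart B) (dT 0) :=
        ⟨rfl, g, by show a = 1 * io α g; rw [ha, emb_apply]; simp⟩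
      refine Subgroup.mem_iSup_of_mem (⟨(k + 1, consD ⟨1, α, α⟩ dT), by simp, hdT.cons hl, rfl⟩ : ι) ?_
      show a * emb (d (k - 1)).f (d (k - 1)).r y * a⁻¹ ∈ (consD ⟨1, α, α⟩ dT (k + 1 - 1)).tgt (yI B)
      rw [show k + 1 - 1 = (k - 1) + 1 by change 1 ≤ k at hk; omega]
      show _ ∈ (dT (k - 1)).tgt (yI B)
      rw [← emb_left]
      have key : (dT (k - 1)).tgt (yI B) = (yI B (d (k - 1)).r).map (emb (a * (d (k - 1)).f) (d (k - 1)).r) := by
        by_cases hk1 : k - 1 = 0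
        · rw [hk1]
          show (yI B (d 0).r).map (emb a (d 0).r) = _
          rw [hf, mul_one]
        · simp only [dT, if_neg hk1]
      rw [key]
      exact ⟨y, hy, rfl⟩
    exact this hx
  set W0 := W.comap (bs (1 : Amal B)) with hW0
  have hn : ∀ α : Ix B, (W0.map α.1.e).Normal := by
    refine fun α => ⟨?_⟩
    rintro _ ⟨x, hx, rfl⟩ g
    have h1 := hWinv α g _ (show emb 1 α (α.1.e x) ∈ W by rw [emb_e]; exact hx)
    rw [← map_inv, ← map_mul, ← map_mul] at h1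
    obtain ⟨w, hw, hwe⟩ := hWle α h1
    obtain ⟨s, rfl⟩ := α.1.Q_le hw
    refine ⟨s, ?_, emb_injective 1 α hwe⟩
    show bs 1 s ∈ W
    rw [← emb_e 1 α, hwe]
    exact h1
  have hYW : uB B ≤ W0 := iSup_le fun i₀ y hy => Subgroup.mem_iSup_of_mem
    (⟨(1, fun _ => ⟨1, i₀, i₀⟩), le_rfl, fun i hi => absurd hi (by omega), rfl⟩ : ι)
    (show bs 1 y ∈ (yI B i₀).map (emb 1 i₀) by rw [map_yI]; exact ⟨y, hy, rfl⟩)
  refine ⟨⨆ σ : MulAut S, W0.map σ.toMonoidHom, ?_, ?_, fun i => ?_⟩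
  · refine Subgroup.characteristic_iff_map_le.2 fun τ => ?_
    rw [Subgroup.map_iSup]
    refine iSup_le fun σ => le_trans (le_of_eq ?_) (le_iSup _ (τ * σ))
    rw [Subgroup.map_map]
    rfl
  · exact fun y hy => Subgroup.mem_iSup_of_mem 1 ⟨y, hYW hy, rfl⟩
  · rw [Subgroup.map_iSup]
    haveI : ∀ σ : MulAut S, ((W0.map σ.toMonoidHom).map i.1.e).Normal := fun σ => by
      rw [Subgroup.map_map]
      exact hn ⟨i.1.twist σ, htw _ _ i.2⟩
    exact Subgroup.iSup_normal _

section Left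

variable [Finite S] {b : ℕ} (hmin : ShortPaths B b) (hb : 2 ≤ b) {d : ℕ → Dart B} (hc : Crit b d)
include hmin hb hc

/-- Paths can be extended to the left, turning at the old first vertex. -/
theorem exists_left_any (hnn : Nn (d 0).l) {g : (d 0).l.1.G} (hg : g ∉ (d 0).l.1.M) :
    ∃ e : Dart B, e.f = (d 0).f * io (d 0).l g ∧ Turn e (d 0) ∧ Crit b (consD e d) := by
  by_contra hcon
  set f1 := (d 0).f * io (d 0).l g with hf1
  have hall : ∀ β : Ix B, (yI B β).map (emb f1 β) ≤ (d (b - 2)).tgt (qI B) := by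
    intro β'
    by_contra hle
    have hT : Turn (⟨f1, β', (d 0).l⟩ : Dart B) (d 0) :=
      ⟨rfl, g⁻¹, fun hc => hg ((Subgroup.inv_mem_iff _).1 hc),
        show (d 0).f = f1 * io (d 0).l g⁻¹ by rw [hf1, map_inv, mul_inv_cancel_right]⟩
    refine hcon ⟨⟨f1, β', (d 0).l⟩, rfl, hT, ⟨fun i hi => ?_, ?_⟩⟩
    · cases i with
      | zero => exact hT.link
      | succ i => exact hc.chain i (by omega)
    · show ¬ (yI B β').map (emb f1 β') ≤ (consD _ d (b - 1)).tgt (qI B)
      rw [show b - 1 = (b - 2) + 1 by omega]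
      exact hle
  set U := (uB B).map (bs f1) with hU
  have hYU : ∀ β : Ix B, (yI B β).map (emb f1 β) ≤ U := fun β => by
    rw [map_yI]; exact Subgroup.map_mono (le_iSup (fun i : Ix B => i.1.yb) β)
  have hU2 : U ≤ sh (d (b - 1)).f := by
    rw [hU, uB, Subgroup.map_iSup]
    refine (iSup_le fun β => map_yI f1 β ▸ hall β).trans ?_
    have hl := hc.chain (b - 2) (by omega)
    rw [show b - 2 + 1 = b - 1 by omega] at hl
    rw [← hl.src_eq qI_normal]
    exact Q_sh _ _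
  have hYU0 : (d 0).src (yI B) ≤ U := by
    rw [Dart.src, ← map_emb_mul (d 0).f (d 0).l g (yI_normal (d 0).l)]
    exact hYU (d 0).l
  obtain ⟨w, hw, hwS, hwQ⟩ := exists_w hmin hb hc
  have hcomm : ∀ v ∈ (d (b - 1)).tgt (yI B), ∀ x ∈ U, v * x * v⁻¹ ∈ U := by
    intro v hv x hx
    rw [show v * x * v⁻¹ = ⁅x, v⁆⁻¹ * x by simp only [commutatorElement_def]; group]
    exact mul_mem (inv_mem (hYU0 (comm_shift hmin hb hc (hU2 hx) hv))) hx
  have hwN : w ∈ Subgroup.normalizer (U : Set (Amal B)) := Subgroup.mem_normalizer_iff.2 fun x =>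
    ⟨hcomm w hw x, fun hx => by
      have := hcomm w⁻¹ (inv_mem hw) _ hx
      simpa [mul_assoc] using this⟩
  have hUn : (uB B).Normal := Subgroup.iSup_normal fun i : Ix B => i.1.yb
  have hSN : sh f1 ≤ Subgroup.normalizer (U : Set (Amal B)) := by
    rintro _ ⟨s, rfl⟩
    refine Subgroup.le_normalizer_map (bs f1) ⟨s, ?_, rfl⟩
    rw [Subgroup.normalizer_eq_top]
    trivial
  have hgen : (emb f1 (d 0).l).range ≤ Subgroup.normalizer (U : Set (Amal B)) := by
    refine gen (f := f1) (i := (d 0).l) (g := g⁻¹) (fun hc' => hg ((Subgroup.inv_mem_iff _).1 hc'))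
      (w := w) ?_ ?_ hSN hwN
    · rwa [hf1, map_inv, mul_inv_cancel_right]
    · rwa [hf1, map_emb_mul _ _ _ (qI_normal _)]
  refine hnn ⟨fun x hx y => ?_⟩
  have hxU : emb f1 (d 0).l x ∈ U := by
    obtain ⟨s, hs, rfl⟩ := hx
    rw [emb_e]
    exact ⟨s, hs, rfl⟩
  have h1 := (Subgroup.mem_normalizer_iff.1 (hgen ⟨y, rfl⟩) _).1 hxU
  rw [← map_inv, ← map_mul, ← map_mul] at h1
  obtain ⟨s, hs, hse⟩ := h1
  rw [← emb_e f1 (d 0).l s] at hse
  exact ⟨s, hs, emb_injective f1 (d 0).l hse⟩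

end Left

end Cfsg.Agent.PushUp.Fam
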