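import Cfsg.Agent.Lib.Fusion.ThreeTransfer.HullMain
import Cfsg.Agent.Lib.Fusion.ThreeTransfer.Paths

/-!
# A characteristic subgroup normal in every member without quadratic action
-/

set_option autoImplicit false

open scoped commutatorElement

namespace Cfsg.Agent.PushUp.Fam

open Cfsg Cfsg.Agent.PushUp

universe u

variable {S : Type u} [Group S] [Finite S] {p : ℕ} [hp : Fact p.Prime] {B : Leg S p → Prop}

omit [Finite S] hp in
theorem uB_char (htw : ∀ L σ, B L → B (L.twist σ)) : (uB B).Characteristic :=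
  Leg.char_iSup B (fun L => L.yb) htw fun L σ => L.twist_yb σ

omit [Finite S] hp in
theorem nn_twist (htw : ∀ L σ, B L → B (L.twist σ)) {L : Ix B} (hL : Nn L) (σ : MulAut S) :
    Nn (⟨L.1.twist σ, htw _ _ L.2⟩ : Ix B) := fun hn => by
  refine hL ?_
  have e : (uB B).map L.1.e = (uB B).map (L.1.e.comp σ.toMonoidHom) := by
    rw [← Subgroup.map_map, Subgroup.characteristic_iff_map_eq.1 (uB_char htw) σ]
  rw [e]
  exact hn

variable (B) in
/-- All members with the same `Y` normalize `uB`. -/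
def FlatCls (L : Leg S p) : Prop := B L ∧ ∀ j : Ix B, j.1.yb = L.yb → ¬ Nn j

variable (B) in
/-- Some member with the same `Y` does not normalize `uB`. -/
def NnCls (L : Leg S p) : Prop := B L ∧ ∃ j : Ix B, Nn j ∧ L.yb = j.1.yb

omit [Finite S] hp in
theorem flatCls_or_nnCls (i : Ix B) : FlatCls B i.1 ∨ NnCls B i.1 := by
  by_cases h : ∃ j : Ix B, Nn j ∧ i.1.yb = j.1.yb
  · exact Or.inr ⟨i.2, h⟩
  · exact Or.inl ⟨i.2, fun j hj hn => h ⟨j, hn, hj.symm⟩⟩

omit [Finite S] hp in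
theorem nnCls_twist (htw : ∀ L σ, B L → B (L.twist σ)) (L : Leg S p) (σ : MulAut S) (h : NnCls B L) :
    NnCls B (L.twist σ) := by
  obtain ⟨hB, j, hjn, hj⟩ := h
  exact ⟨htw L σ hB, ⟨j.1.twist σ, htw _ _ j.2⟩, nn_twist htw hjn σ, by rw [Leg.twist_yb, hj]; rfl⟩

omit [Finite S] hp in
theorem flatCls_twist (htw : ∀ L σ, B L → B (L.twist σ)) (L : Leg S p) (σ : MulAut S) (h : FlatCls B L) :
    FlatCls B (L.twist σ) := by
  refine ⟨htw L σ h.1, fun j hj hn => h.2 ⟨j.1.twist σ.symm, htw _ _ j.2⟩ ?_ (nn_twist htw hn σ.symm)⟩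
  show (j.1.twist σ.symm).yb = L.yb
  rw [Leg.twist_yb, hj, Leg.twist_yb, Subgroup.comap_comap]
  ext x
  show σ (σ.symm x) ∈ L.yb ↔ _
  rw [MulEquiv.apply_symm_apply]

omit [Finite S] hp in
theorem uB_le_qb (hB : ∀ L, B L → L.NQ) (i : Ix B) : uB B ≤ i.1.qb :=
  iSup_le fun j => (hB _ i.2).yb_le_qb j.1

omit [Finite S] hp in
theorem uB_comm_center {v : S} (hv : v ∈ uB B) (s : S) : ⁅v, s⁆ ∈ Subgroup.center S := by
  set π := QuotientGroup.mk' (Subgroup.center S)
  have h1 : uB B ≤ (Subgroup.center (S ⧸ Subgroup.center S)).comap π := iSup_le fun i y hy => by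
    refine Subgroup.mem_center_iff.2 fun w => ?_
    obtain ⟨t, rfl⟩ := QuotientGroup.mk'_surjective (Subgroup.center S) w
    refine (commutatorElement_eq_one_iff_mul_comm.1 ?_).symm
    rw [← map_commutatorElement]
    exact (QuotientGroup.eq_one_iff _).2 (i.1.comm_yb_center hy t)
  have h2 := Subgroup.mem_center_iff.1 (h1 hv) (π s)
  rw [← QuotientGroup.eq_one_iff, ← QuotientGroup.mk'_apply, map_commutatorElement,
    commutatorElement_eq_one_iff_mul_comm]
  exact h2.symm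

omit hp in
theorem comm_le_cb (hB : ∀ L, B L → L.NQ) {L : Ix B} (hL : ¬ Nn L) (H : Ix B) (hne : H.1.yb ≠ L.1.yb) :
    H.1.line ≤ L.1.cb := Subgroup.commutator_le.2 fun _ hy s _ =>
  Leg.flat_comm L.1 H.1 (U := uB B) (not_not.1 hL) (uB_le_qb hB L) (fun _ hv => uB_comm_center hv)
    (le_iSup (fun i : Ix B => i.1.yb) L) (le_iSup (fun i : Ix B => i.1.yb) H) ((hB _ H.2).yb_le_qb L.1) hne hy s

omit hp in
/-- The subgroups `[Y, S]` of flat classes are independent modulo the central elements. -/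
theorem flat_lines_inf (hodd : Odd p) (hB : ∀ L, B L → L.NQ) (x : S)
    (hx : x ∈ ⨆ i : {L : Leg S p // FlatCls B L}, i.1.line) (hxc : ∀ i : {L : Leg S p // FlatCls B L}, x ∈ i.1.cb) :
    x = 1 := by
  classical
  have := Fintype.ofFinite (Subgroup S)
  have key : ∀ s : Finset (Subgroup S), (∀ Y ∈ s, ∃ L, FlatCls B L ∧ L.yb = Y) →
      ∀ x ∈ ⨆ Y ∈ s, ⁅Y, (⊤ : Subgroup S)⁆, (∀ i : {L : Leg S p // FlatCls B L}, x ∈ i.1.cb) → x = 1 := by
    intro s
    induction s using Finset.induction with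
    | empty => intro _ x hx _; simpa using hx
    | @insert Y s hY ih =>
      intro hs x hx hxc
      obtain ⟨L, hL, rfl⟩ := hs Y (Finset.mem_insert_self _ _)
      rw [Finset.iSup_insert] at hx
      obtain ⟨a, ha, r, hr, rfl⟩ := Subgroup.mem_sup_of_normal_left.1 hx
      have hrc : r ∈ L.cb := by
        refine (iSup₂_le fun Y' hY' => ?_ : ⨆ Y' ∈ s, ⁅Y', (⊤ : Subgroup S)⁆ ≤ L.cb) hr
        obtain ⟨L', hL', rfl⟩ := hs Y' (Finset.mem_insert_of_mem hY')
        exact comm_le_cb hB (L := ⟨L, hL.1⟩) (hL.2 ⟨L, hL.1⟩ rfl) ⟨L', hL'.1⟩ fun h => hY (h ▸ hY')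
      have ha1 : a = 1 := L.line_inf_cb hodd ha (by simpa using mul_mem (hxc ⟨L, hL⟩) (inv_mem hrc))
      rw [ha1, one_mul] at hxc ⊢
      exact ih (fun Y' hY' => hs Y' (Finset.mem_insert_of_mem hY')) r hr hxc
  refine key (Finset.univ.filter fun Y => ∃ L, FlatCls B L ∧ L.yb = Y) (fun Y hY => (Finset.mem_filter.1 hY).2) x
    ((iSup_le fun i => ?_ : (⨆ i : {L : Leg S p // FlatCls B L}, i.1.line) ≤ _) hx) hxc
  exact le_iSup₂ (f := fun Y (_ : Y ∈ Finset.univ.filter fun Y => ∃ L, FlatCls B L ∧ L.yb = Y) =>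
    ⁅Y, (⊤ : Subgroup S)⁆) i.1.yb (Finset.mem_filter.2 ⟨Finset.mem_univ _, i.1, i.2, rfl⟩)

omit hp in
/-- A member of a flat class and one of another class satisfy the hypotheses on the hull. -/
theorem opp_of_flat (hodd : Odd p) (htw : ∀ L σ, B L → B (L.twist σ)) (hB : ∀ L, B L → L.NQ) {L H : Ix B}
    (hL : FlatCls B L.1) (hH : NnCls B H.1) : Opp (uB B) L.1 H.1 := by
  have hne : ∀ i : {L : Leg S p // FlatCls B L}, H.1.yb ≠ i.1.yb := fun i h => by
    obtain ⟨-, j, hjn, hj⟩ := hH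
    exact i.2.2 j (hj.symm.trans h) hjn
  set T := ⨆ i : {L : Leg S p // FlatCls B L}, i.1.line with hT
  have hTle : T ≤ H.1.cb := by
    by_contra hle
    have hTc : T.Characteristic :=
      Leg.char_iSup (FlatCls B) (fun L => L.line) (flatCls_twist htw) fun L σ => L.comm_twist σ
    refine H.1.inf_comm_ne_bot hodd hTc (iSup_le fun i => i.1.line_le_center) hle ((Subgroup.eq_bot_iff_forall _).2 ?_)
    rintro x ⟨hx, hxH⟩
    exact flat_lines_inf hodd hB x hx fun i =>
      comm_le_cb hB (L := ⟨i.1, i.2.1⟩) (i.2.2 ⟨i.1, i.2.1⟩ rfl) H (hne i) hxH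
  refine
    { odd := hodd
      nq := hB _ L.2
      Un := Subgroup.iSup_normal fun i : Ix B => i.1.yb
      flat := not_not.1 (hL.2 L rfl)
      U_le := uB_le_qb hB L
      U_center := fun _ hv => uB_comm_center hv
      U_commute := ?_
      L_le := le_iSup (fun i : Ix B => i.1.yb) L
      H_le := le_iSup (fun i : Ix B => i.1.yb) H
      L_H := (hB _ H.2).yb_le_qb L.1
      lineL := (le_iSup (fun i : {L : Leg S p // FlatCls B L} => i.1.line) ⟨L.1, hL⟩).trans hTle
      split := ?_ }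
  · intro A hAn hA a ha v hv
    have hle : uB B ≤ Subgroup.centralizer ({a} : Set S) := iSup_le fun i y hy =>
      Subgroup.mem_centralizer_singleton_iff.2 (i.1.commute_qb_yb ((hB _ i.2).le_qb hA ha) hy).eq
    exact (Subgroup.mem_centralizer_singleton_iff.1 (hle hv)).symm
  · let D : Subgroup S :=
    { carrier := {v | v ∈ uB B ∧ ∀ s : S, ⁅v, s⁆ ∈ L.1.cb}
      one_mem' := ⟨one_mem _, fun s => by rw [commutatorElement_one_left]; exact one_mem _⟩
      mul_mem' := fun {a b} ha hb => ⟨mul_mem ha.1 hb.1, fun s => by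
        rw [comm_mul_left_center (L.1.cb_le_center (hb.2 s))]
        exact mul_mem (hb.2 s) (ha.2 s)⟩
      inv_mem' := fun {a} ha => ⟨inv_mem ha.1, fun s => by
        rw [comm_inv_left_center (L.1.cb_le_center (ha.2 s))]
        exact inv_mem (ha.2 s)⟩ }
    have hle : uB B ≤ L.1.yb ⊔ D := iSup_le fun i => by
      by_cases hi : i.1.yb = L.1.yb
      · exact hi ▸ le_sup_left
      · have h1 : i.1.yb ≤ D := fun y hy => ⟨le_iSup (fun i : Ix B => i.1.yb) i hy, fun s =>
          comm_le_cb hB (hL.2 L rfl) i hi (i.1.comm_mem_line hy s)⟩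
        exact h1.trans le_sup_right
    intro v hv
    obtain ⟨y, hy, r, hr, rfl⟩ := Subgroup.mem_sup_of_normal_left.1 (hle hv)
    exact ⟨y, hy, fun s => by rw [inv_mul_cancel_left]; exact hr.2 s⟩

omit [Finite S] hp in
/-- A subgroup normal in all turning vertices is the same along a chain. -/
theorem Chain.map_eq {b : ℕ} {d : ℕ → Dart B} (hd : Chain b d) {X : Subgroup S}
    (hX : ∀ i, i + 1 < b → (X.map (d i).r.1.e).Normal) :
    ∀ i, i < b → X.map (bs (d 0).f) = X.map (bs (d i).f) := by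
  intro i
  induction i with
  | zero => exact fun _ => rfl
  | succ i ih =>
    intro hi
    obtain ⟨-, g, hg⟩ := hd i hi
    rw [ih (by omega), hg, ← emb_comp (d i).f (d i).r, ← emb_comp ((d i).f * io (d i).r g) (d i).r,
      ← Subgroup.map_map, ← Subgroup.map_map, map_emb_mul _ _ _ (hX i hi)]

omit [Finite S] hp in
/-- The first vertex may be replaced by any member with the same `Y`. -/
theorem Crit.replace_first {b : ℕ} (hb : 2 ≤ b) {d : ℕ → Dart B} (hc : Crit b d) {j : Ix B}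
    (hj : j.1.yb = (d 0).l.1.yb) :
    Crit b (fun i => if i = 0 then ⟨(d 0).f, j, (d 0).r⟩ else d i) := by
  refine ⟨fun i hi => ?_, ?_⟩
  · show Link (if i = 0 then _ else d i) (if i + 1 = 0 then _ else d (i + 1))
    rw [if_neg (show i + 1 ≠ 0 by omega)]
    by_cases hi0 : i = 0
    · subst hi0
      rw [if_pos rfl]
      exact hc.link hb
    · rw [if_neg hi0]
      exact hc.chain i hi
  · rw [if_neg (show b - 1 ≠ 0 by omega), if_pos rfl]
    show ¬ (yI B j).map (emb (d 0).f j) ≤ _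
    rw [(map_twin _ hj).1]
    exact hc.not_le

/-- A shortest critical path does not start at a flat class. -/
theorem start_nnCls (hS : IsPGroup p S) (hodd : Odd p) (htw : ∀ L σ, B L → B (L.twist σ))
    (hB : ∀ L, B L → L.NQ) {b : ℕ} (hmin : ShortPaths B b) (hb : 2 ≤ b) {d : ℕ → Dart B} (hc : Crit b d) :
    NnCls B (d 0).l.1 := by
  refine (flatCls_or_nnCls _).resolve_left fun hL => hc.not_le ?_
  set L := (d 0).l
  set m := (d 0).r
  obtain ⟨h1l, g, h1f⟩ := hc.link hb
  have hstep : (d 0).src (yI B) ≤ (uB B).map (bs (d 1).f) := by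
    intro z hz
    obtain ⟨y, hy, rfl⟩ : z ∈ L.1.yb.map (bs (d 0).f) := by rw [← map_yI]; exact hz
    have hyU : y ∈ uB B := le_iSup (fun i : Ix B => i.1.yb) L hy
    obtain ⟨w, hw, hwe⟩ : g⁻¹ * m.1.e y * g ∈ (uB B).map m.1.e := by
      rcases flatCls_or_nnCls m with hm | hm
      · simpa using (not_not.1 (hm.2 m rfl)).conj_mem _ ⟨y, hyU, rfl⟩ g⁻¹
      · simpa using (opp_of_flat hodd htw hB hL hm).hull_le hS g⁻¹ hy
    refine ⟨w, hw, ?_⟩
    rw [h1f, ← emb_e ((d 0).f * io (d 0).r g) (d 0).r, hwe, emb_mul, ← emb_e (d 0).f (d 0).r]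
    congr 1
    simp [m, mul_assoc]
  refine hstep.trans ?_
  rw [uB, Subgroup.map_iSup]
  refine iSup_le fun β => ?_
  have hidx : b - 1 - 1 + 1 = b - 1 := by omega
  have h1 := hmin (b - 1) (by omega) (by omega)
    (fun i => if i = 0 then ⟨(d 1).f, β, (d 1).r⟩ else d (i + 1)) (fun i hi => by
      show Link (if i = 0 then _ else d (i + 1)) (if i + 1 = 0 then _ else d (i + 1 + 1))
      rw [if_neg (show i + 1 ≠ 0 by omega)]
      by_cases hi0 : i = 0
      · subst hi0
        rw [if_pos rfl]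
        exact hc.chain 1 (by omega)
      · rw [if_neg hi0]
        exact hc.chain (i + 1) (by omega))
  refine le_trans (le_of_eq ?_) (h1.trans (le_of_eq ?_))
  · show β.1.yb.map (bs (d 1).f) = Dart.src (if 0 = 0 then (⟨(d 1).f, β, (d 1).r⟩ : Dart B) else d (0 + 1)) (yI B)
    rw [if_pos rfl]
    exact (map_yI _ _).symm
  · show Dart.tgt (if b - 1 - 1 = 0 then (⟨(d 1).f, β, (d 1).r⟩ : Dart B) else d (b - 1 - 1 + 1)) (qI B) = _
    by_cases hb2 : b - 1 - 1 = 0
    · rw [if_pos hb2, show b - 1 = 1 by omega]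
    · rw [if_neg hb2, hidx]

/-- In every family of members without quadratic action some characteristic subgroup containing all `Y` is
normal in every member. -/
theorem exists_char_normal (hS : IsPGroup p S) (hodd : Odd p) (htw : ∀ L σ, B L → B (L.twist σ))
    (hB : ∀ L, B L → L.NQ) :
    ∃ X : Subgroup S, X.Characteristic ∧ uB B ≤ X ∧ ∀ i : Ix B, (X.map i.1.e).Normal := by
  classical
  induction hn : Set.ncard {Y : Subgroup S | ∃ L, B L ∧ L.yb = Y} using Nat.strong_induction_on generalizing B with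
  | _ n ih => ?_
  by_cases hcon : ∀ k, 1 ≤ k → ∀ d : ℕ → Dart B, Chain k d → (d 0).src (yI B) ≤ (d (k - 1)).tgt (qI B)
  · exact exists_closed_uB htw hcon
  exfalso
  have hex : ∃ k, ∃ d : ℕ → Dart B, 1 ≤ k ∧ Chain k d ∧ ¬ (d 0).src (yI B) ≤ (d (k - 1)).tgt (qI B) := by
    simpa using hcon
  obtain ⟨d, hk, hd, hnle⟩ := Nat.find_spec hex
  set b := Nat.find hex with hbdef
  have hmin : ShortPaths B b := fun k hk1 hkb d' hd' =>
    by_contra fun hc => Nat.find_min hex hkb ⟨d', hk1, hd', hc⟩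
  have hc : Crit b d := ⟨hd, hnle⟩
  have hun : ∀ i j : Ix B, i.1.yb ≤ j.1.qb := fun i j => (hB _ j.2).yb_le_qb i.1
  rcases (show b = 1 ∨ b = 2 ∨ 3 ≤ b by omega) with hb1 | hb2 | hb3
  · rw [hb1] at hnle
    refine hnle ?_
    show (yI B (d 0).l).map (emb (d 0).f (d 0).l) ≤ (qI B (d 0).r).map (emb (d 0).f (d 0).r)
    rw [map_yI, map_qI]
    exact Subgroup.map_mono (hun _ _)
  · refine hc.not_fixed hmin (by omega) (hB _ (d (b - 1)).r.2) (R := (d 0).r.1.qb) (hun _ _)
      (hc.chain.map_eq (fun i hi => ?_) (b - 1) (by omega))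
    obtain rfl : i = 0 := by omega
    rw [Leg.map_qb]
    exact (d 0).r.1.pup.Qn
  · have hb : 2 ≤ b := by omega
    by_cases htwin : Twin B
    · exact no_long hmin htwin hb hc hb3
    simp only [Twin, not_forall, not_exists, not_and] at htwin
    obtain ⟨i₁, hi₁⟩ := htwin
    have hlt : Set.ncard {Y : Subgroup S | ∃ L, NnCls B L ∧ L.yb = Y} < n := by
      refine hn ▸ Set.ncard_lt_ncard ⟨fun Y hY => ?_, fun hle => ?_⟩ (Set.toFinite _)
      · obtain ⟨L, hL, hLY⟩ := hY
        exact ⟨L, hL.1, hLY⟩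
      · obtain ⟨L, ⟨-, j, hjn, hj⟩, hLY⟩ := hle (show i₁.1.yb ∈ _ from ⟨i₁.1, i₁.2, rfl⟩)
        exact hi₁ j (hj.symm.trans hLY) hjn
    obtain ⟨X, hX, hXu, hXn⟩ := ih _ hlt (nnCls_twist htw) (fun L hL => hB L hL.1) rfl
    have key : ∀ j, ∃ d' : ℕ → Dart B, Crit b d' ∧ Nn (d' 0).l ∧ ∀ i, i < j → i < b → NnCls B (d' i).r.1 := by
      intro j
      induction j with
      | zero =>
        obtain ⟨-, j₀, hjn, hj⟩ := start_nnCls hS hodd htw hB hmin hb hc
        exact ⟨_, hc.replace_first hb hj.symm, by simpa using hjn, fun i hi => absurd hi (Nat.not_lt_zero i)⟩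
      | succ j ihj =>
        obtain ⟨d', hc', hnn, hcl⟩ := ihj
        obtain ⟨e, -, he, hce⟩ := exists_left_any hmin hb hc' hnn (d' 0).l.1.hg
        obtain ⟨-, j₀, hjn, hj⟩ := start_nnCls hS hodd htw hB hmin hb hce
        refine ⟨_, hce.replace_first hb hj.symm, by simpa using hjn, fun i hi hib => ?_⟩
        cases i with
        | zero =>
          show NnCls B (if 0 = 0 then (⟨(consD e d' 0).f, j₀, (consD e d' 0).r⟩ : Dart B) else _).r.1
          rw [if_pos rfl]
          show NnCls B e.r.1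
          rw [show e.r = (d' 0).l from he.1.symm]
          exact ⟨(d' 0).l.2, (d' 0).l, hnn, rfl⟩
        | succ i =>
          show NnCls B (if i + 1 = 0 then _ else consD e d' (i + 1)).r.1
          rw [if_neg (by omega)]
          exact hcl i (by omega) (by omega)
    obtain ⟨d', hc', hnn, hcl⟩ := key b
    have := hX
    refine hc'.not_fixed hmin hb (hB _ (d' (b - 1)).r.2) (R := X)
      ((le_iSup (fun i : Ix (NnCls B) => i.1.yb)
        ⟨(d' 0).l.1, (d' 0).l.2, (d' 0).l, hnn, rfl⟩).trans hXu)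
      (hc'.chain.map_eq (fun i hi => hXn ⟨(d' i).r.1, hcl i (by omega) (by omega)⟩) (b - 1) (by omega))

end Cfsg.Agent.PushUp.Fam
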