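import Cfsg.Agent.Lib.Fusion.ThreeTransfer.Closed
import Cfsg.Agent.Lib.Fusion.JTildeFunctors
import Cfsg.Agent.Lib.Fusion.ThompsonNPC

/-!
# The functor read on `C(Z(J))`

For a group with elementary centre: the largest subgroup normal in all members without quadratic action over
it. Otherwise: the highest nontrivial powers of the centre.
-/

set_option autoImplicit false

open scoped commutatorElement

universe u

namespace Cfsg.Agent.PushUp

open Cfsg

variable {S R : Type u} [Group S] [Group R] {p : ℕ}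

theorem Leg.range_comp_equiv (L : Leg R p) (φ : S ≃* R) : (L.e.comp φ.toMonoidHom).range = L.e.range := by
  rw [MonoidHom.range_comp, MonoidHom.range_eq_top.2 φ.surjective, MonoidHom.range_eq_map]

/-- The embedding read through an isomorphism. -/
def Leg.congr (L : Leg R p) (φ : S ≃* R) : Leg S p :=
  { L with
    e := L.e.comp φ.toMonoidHom
    inj := L.inj.comp φ.injective
    pup := (L.range_comp_equiv φ).symm ▸ L.pup
    hs₁ := (L.range_comp_equiv φ).symm ▸ L.hs₁
    coord := (L.range_comp_equiv φ).symm ▸ L.coord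
    hnorm := (L.range_comp_equiv φ).symm ▸ L.hnorm
    exA := by
      obtain ⟨A, h1, h2, h3⟩ := L.exA
      have := h1
      refine ⟨A.map φ.symm.toMonoidHom, inferInstance, fun B hB => ?_, ?_⟩
      · have := hB
        rw [Subgroup.card_map_of_injective (f := φ.symm.toMonoidHom) φ.symm.injective,
          ← Subgroup.card_map_of_injective (K := B) (f := φ.toMonoidHom) φ.injective]
        exact h2 _ inferInstance
      · rw [← Subgroup.comap_comap]
        rw [Subgroup.comap_equiv_eq_map_symm' φ, ← Subgroup.map_sup, h3,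
          Subgroup.map_top_of_surjective _ φ.symm.surjective] }

theorem Leg.NQ.congr {L : Leg R p} (h : L.NQ) (φ : S ≃* R) : (L.congr φ).NQ := fun x hx => by
  refine h (φ x) fun d hd => ?_
  have h1 := hx (φ.symm d) (show φ (φ.symm d) ∈ L.qb by rwa [MulEquiv.apply_symm_apply])
  change φ ⁅⁅φ.symm d, x⁆, x⁆ ∈ L.yb at h1
  rwa [map_commutatorElement, map_commutatorElement, MulEquiv.apply_symm_apply] at h1

/-- The largest subgroup normal in all members without quadratic action. -/
def nqCore (p : ℕ) (S : Type u) [Group S] : Subgroup S :=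
  sSup {N | ∀ L : Leg S p, L.NQ → (N.map L.e).Normal}

theorem nqCore_normal {L : Leg S p} (hL : L.NQ) : ((nqCore p S).map L.e).Normal := by
  rw [nqCore, sSup_eq_iSup', Subgroup.map_iSup]
  have : ∀ N : {N : Subgroup S | ∀ L : Leg S p, L.NQ → (N.map L.e).Normal}, ((N : Subgroup S).map L.e).Normal :=
    fun N => N.2 L hL
  exact Subgroup.iSup_normal _

theorem map_nqCore (φ : S ≃* R) : (nqCore p S).map φ.toMonoidHom = nqCore p R := by
  have key : ∀ {S R : Type u} [Group S] [Group R] (φ : S ≃* R),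
      (nqCore p S).map φ.toMonoidHom ≤ nqCore p R := by
    intro S R _ _ φ
    refine le_sSup fun L hL => ?_
    rw [Subgroup.map_map]
    exact nqCore_normal (L := L.congr φ) (hL.congr φ)
  refine le_antisymm (key φ) ?_
  have h := Subgroup.map_mono (f := φ.toMonoidHom) (key φ.symm)
  rw [Subgroup.map_map] at h
  rwa [show φ.toMonoidHom.comp φ.symm.toMonoidHom = MonoidHom.id R from
    MonoidHom.ext fun x => φ.apply_symm_apply x, Subgroup.map_id] at h

theorem nqCore_ne_bot [Finite S] [Nontrivial S] [hp : Fact p.Prime] (hS : IsPGroup p S) (hodd : Odd p) :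
    nqCore p S ≠ ⊥ := by
  intro h0
  by_cases hne : ∃ L : Leg S p, L.NQ
  · obtain ⟨L, hL⟩ := hne
    obtain ⟨X, -, hXu, hXn⟩ := Fam.exists_char_normal (B := fun L : Leg S p => L.NQ) hS hodd
      (fun _ σ h => h.twist σ) fun _ h => h
    have h1 : L.yb ≤ nqCore p S := ((le_iSup (fun i : Fam.Ix (fun L : Leg S p => L.NQ) => i.1.yb) ⟨L, hL⟩).trans
      hXu).trans (le_sSup fun L' hL' => hXn ⟨L', hL'⟩)
    obtain ⟨y, hy, hyz⟩ := L.exists_not_center
    have := h1 hy
    rw [h0, Subgroup.mem_bot] at this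
    exact hyz (this ▸ one_mem _)
  · have h1 : (⊤ : Subgroup S) ≤ nqCore p S := le_sSup fun L hL => absurd ⟨L, hL⟩ hne
    exact top_ne_bot (le_bot_iff.1 (h1.trans h0.le))

end Cfsg.Agent.PushUp

namespace Cfsg.Agent.Fusion

open Cfsg

variable {p : ℕ}

/-- The highest nontrivial powers of the centre. -/
def topPow (p : ℕ) (Q : Type u) [Group Q] : Subgroup Q :=
  Subgroup.closure {w | ∃ k : ℕ, 1 ≤ k ∧ ∃ z ∈ Subgroup.center Q,
    z ^ p ^ k = w ∧ ∀ z' ∈ Subgroup.center Q, z' ^ p ^ (k + 1) = 1}

/-- The functor read on `C(Z(J))`. -/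
noncomputable def wV (p : ℕ) (Q : Type u) [Group Q] : Subgroup Q :=
  haveI := _root_.Classical.propDecidable (∀ z ∈ Subgroup.center Q, z ^ p = 1)
  if ∀ z ∈ Subgroup.center Q, z ^ p = 1 then PushUp.nqCore p Q else topPow p Q

theorem wV_of_exp {Q : Type u} [Group Q] (h : ∀ z ∈ Subgroup.center Q, z ^ p = 1) :
    wV p Q = PushUp.nqCore p Q := by
  rw [wV, if_pos h]

theorem wV_of_not_exp {Q : Type u} [Group Q] (h : ¬ ∀ z ∈ Subgroup.center Q, z ^ p = 1) :
    wV p Q = topPow p Q := by
  rw [wV, if_neg h]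

variable {Q R : Type u} [Group Q] [Group R]

theorem mem_center_equiv (φ : Q ≃* R) {z : Q} : φ z ∈ Subgroup.center R ↔ z ∈ Subgroup.center Q := by
  simp only [Subgroup.mem_center_iff]
  constructor
  · intro h x
    exact φ.injective (by rw [map_mul, map_mul]; exact h (φ x))
  · intro h x
    obtain ⟨y, rfl⟩ := φ.surjective x
    rw [← map_mul, ← map_mul, h y]

theorem exp_center_equiv (φ : Q ≃* R) (n : ℕ) :
    (∀ z ∈ Subgroup.center R, z ^ n = 1) ↔ ∀ z ∈ Subgroup.center Q, z ^ n = 1 := by
  constructor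
  · intro h z hz
    exact φ.injective (by rw [map_pow, map_one]; exact h _ ((mem_center_equiv φ).2 hz))
  · intro h z hz
    obtain ⟨y, rfl⟩ := φ.surjective z
    rw [← map_pow, h y ((mem_center_equiv φ).1 hz), map_one]

theorem map_topPow (φ : Q ≃* R) : (topPow p Q).map φ.toMonoidHom = topPow p R := by
  rw [topPow, topPow, MonoidHom.map_closure]
  congr 1
  ext w
  constructor
  · rintro ⟨_, ⟨k, hk, z, hz, rfl, h⟩, rfl⟩
    exact ⟨k, hk, φ z, (mem_center_equiv φ).2 hz, (map_pow φ z _).symm, (exp_center_equiv φ _).2 h⟩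
  · rintro ⟨k, hk, z, hz, rfl, h⟩
    obtain ⟨y, rfl⟩ := φ.surjective z
    exact ⟨y ^ p ^ k, ⟨k, hk, y, (mem_center_equiv φ).1 hz, rfl, (exp_center_equiv φ _).1 h⟩, map_pow φ y _⟩

theorem isCharPFunctor_wV [hp : Fact p.Prime] (hodd : Odd p) : IsCharPFunctor.{u} p (wV p) := by
  classical
  refine ⟨fun Q _ _ hQ hn h => ?_, fun Q R _ _ _ _ φ => ?_⟩
  · by_cases he : ∀ z ∈ Subgroup.center Q, z ^ p = 1
    · rw [wV_of_exp he] at h
      exact PushUp.nqCore_ne_bot hQ hodd h
    · rw [wV_of_not_exp he] at h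
      have hex : ∃ k, ∀ z ∈ Subgroup.center Q, z ^ p ^ k = 1 := by
        obtain ⟨n, hn⟩ := IsPGroup.iff_card.1 hQ
        exact ⟨n, fun z _ => by rw [← hn]; exact pow_card_eq_one'⟩
      set e := Nat.find hex with hedef
      have he2 : 2 ≤ e := by
        by_contra hlt
        refine he fun z hz => ?_
        rcases (show e = 0 ∨ e = 1 by omega) with h0 | h0
        · have := Nat.find_spec hex z hz
          rw [← hedef, h0, pow_zero, pow_one] at this
          rw [this, one_pow]
        · have := Nat.find_spec hex z hz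
          rwa [← hedef, h0, pow_one] at this
      have hne : ¬ ∀ z ∈ Subgroup.center Q, z ^ p ^ (e - 1) = 1 := Nat.find_min hex (by omega)
      refine hne fun z hz => Subgroup.mem_bot.1 (h ▸ Subgroup.subset_closure
        ⟨e - 1, by omega, z, hz, rfl, ?_⟩)
      rw [show e - 1 + 1 = e by omega]
      exact Nat.find_spec hex
  · by_cases he : ∀ z ∈ Subgroup.center Q, z ^ p = 1
    · rw [wV_of_exp he, wV_of_exp ((exp_center_equiv φ p).2 he), PushUp.map_nqCore]
    · rw [wV_of_not_exp he, wV_of_not_exp fun h => he ((exp_center_equiv φ p).1 h), map_topPow]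

/-- The two functors: the centre and the one read on `C(Z(J))`. -/
def threeFam (p : ℕ) : Set (∀ (Q : Type u) [Group Q], Subgroup Q) :=
  {(fun (Q : Type u) [Group Q] => Subgroup.center Q), compJ (wV p)}

theorem isCharPFunctor_threeFam [hp : Fact p.Prime] (hodd : Odd p) :
    ∀ W ∈ (threeFam p : Set (∀ (Q : Type u) [Group Q], Subgroup Q)), IsCharPFunctor.{u} p W := by
  rintro W (rfl | rfl)
  · exact isCharPFunctor_center (p := p)
  · exact isCharPFunctor_compJ (isCharPFunctor_wV hodd)

end Cfsg.Agent.Fusion
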