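import Cfsg.Agent.Lib.Fusion.ThreeTransfer.LegLine

/-!
# Conjugates of the `Y` of a member normalizing `U`

If one member normalizes the subgroup `U` and the commutator subgroup of each of two members is central in the
other, then all conjugates of the first `Y` in the second group lie in `U`.
-/

set_option autoImplicit false

open scoped commutatorElement

namespace Cfsg.Agent.PushUp

open Cfsg

universe u

variable {S : Type u} [Group S] {p : ℕ}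

theorem comm_mul_left_of_commute {a b c : S} (h : Commute a c) (hb : ⁅b, c⁆ ∈ Subgroup.center S) :
    ⁅a * b, c⁆ = ⁅b, c⁆ := by
  rw [comm_mul_left_center hb, commutatorElement_eq_one_iff_commute.2 h, mul_one]

theorem comm_inv_right_center {a c : S} (h : ⁅a, c⁆ ∈ Subgroup.center S) : ⁅a, c⁻¹⁆ = ⁅a, c⁆⁻¹ := by
  rw [show ⁅a, c⁻¹⁆ = c⁻¹ * ⁅a, c⁆⁻¹ * c⁻¹⁻¹ by simp only [commutatorElement_def]; group,
    conj_center (inv_mem h)]

/-- Two members, the first normalizing `U`. -/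
structure Opp (U : Subgroup S) (L H : Leg S p) : Prop where
  odd : Odd p
  nq : L.NQ
  Un : U.Normal
  flat : (U.map L.e).Normal
  U_le : U ≤ L.qb
  U_center : ∀ v ∈ U, ∀ s : S, ⁅v, s⁆ ∈ Subgroup.center S
  U_commute : ∀ A : Subgroup S, A.Normal → (∀ a ∈ A, ∀ b ∈ A, Commute a b) → ∀ a ∈ A, ∀ v ∈ U, Commute a v
  L_le : L.yb ≤ U
  H_le : H.yb ≤ U
  L_H : L.yb ≤ H.qb
  lineL : L.line ≤ H.cb
  split : ∀ v ∈ U, ∃ y ∈ L.yb, ∀ s : S, ⁅y⁻¹ * v, s⁆ ∈ L.cb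

namespace Opp

variable {U : Subgroup S} {L H : Leg S p} (o : Opp U L H)
include o

/-- The intersection of the two cores. -/
theorem yb_le : L.yb ≤ L.qb ⊓ H.qb ∧ H.yb ≤ L.qb ⊓ H.qb :=
  ⟨le_inf L.yb_le_qb o.L_H, le_inf (o.H_le.trans o.U_le) H.yb_le_qb⟩

/-- The core sees `U` only centrally. -/
theorem comm_cb {v w : S} (hv : v ∈ U) (hw : w ∈ L.qb) : ⁅v, w⁆ ∈ L.cb := by
  obtain ⟨v', hv', hve⟩ := o.flat.conj_mem _ ⟨v, hv, rfl⟩ L.g0⁻¹
  obtain ⟨w', hwe⟩ := L.Q_le (L.pup.Qn.conj_mem _ hw L.g0⁻¹)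
  refine L.pup.mem_cenIn L.hg (L.e_mem_zS.2 (o.U_center v hv w)) ?_
  rw [show L.g0⁻¹ * L.e ⁅v, w⁆ * L.g0 = L.e ⁅v', w'⁆ by
    rw [map_commutatorElement, map_commutatorElement, hve, hwe]
    simp only [commutatorElement_def]; group]
  exact L.e_mem_zS.2 (o.U_center v' hv' w')

/-- The group centralizes `U` modulo `Y`. -/
theorem trivial_quot (g : L.G) {v : S} (hv : v ∈ U) :
    ∃ y ∈ L.yb, g * L.e v * g⁻¹ = L.e (y * v) := by
  have := L.pup.Yn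
  let K : Subgroup L.G :=
  { carrier := {g | ∀ v ∈ U, g * L.e v * g⁻¹ * (L.e v)⁻¹ ∈ L.Y}
    one_mem' := fun v _ => by simp
    mul_mem' := fun {g g'} hg hg' v hv => by
      obtain ⟨v', hv', hve⟩ := o.flat.conj_mem _ ⟨v, hv, rfl⟩ g'
      rw [show g * g' * L.e v * (g * g')⁻¹ * (L.e v)⁻¹ =
        (g * L.e v' * g⁻¹ * (L.e v')⁻¹) * (L.e v' * (L.e v)⁻¹) by rw [hve]; group]
      refine mul_mem (hg v' hv') ?_
      rw [hve]; exact hg' v hv
    inv_mem' := fun {g} hg v hv => by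
      obtain ⟨v', hv', hve⟩ := o.flat.conj_mem _ ⟨v, hv, rfl⟩ g⁻¹
      have h1 := hg v' hv'
      rw [hve] at h1
      have h2 := inv_mem h1
      rwa [show (g * (g⁻¹ * L.e v * g⁻¹⁻¹) * g⁻¹ * (g⁻¹ * L.e v * g⁻¹⁻¹)⁻¹)⁻¹ =
        g⁻¹ * L.e v * g⁻¹⁻¹ * (L.e v)⁻¹ by group] at h2 }
  have hS : L.e.range ≤ K := by
    rintro _ ⟨s, rfl⟩ v hv
    rw [show L.e s * L.e v * (L.e s)⁻¹ * (L.e v)⁻¹ = L.e ⁅s, v⁆ by simp [commutatorElement_def]]
    refine L.center_le_yb ?_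
    rw [← commutatorElement_inv]
    exact inv_mem (o.U_center v hv s)
  have htop : K = ⊤ := L.gen L.hg K hS fun s hs v hv => by
    obtain ⟨v', hv', hve⟩ := o.flat.conj_mem _ ⟨v, hv, rfl⟩ L.g0⁻¹
    have h1 := L.pup.Yn.conj_mem _ (hS hs v' hv') L.g0
    rw [hve] at h1
    rwa [show L.g0 * (s * (L.g0⁻¹ * L.e v * L.g0⁻¹⁻¹) * s⁻¹ * (L.g0⁻¹ * L.e v * L.g0⁻¹⁻¹)⁻¹) * L.g0⁻¹ =
      L.g0 * s * L.g0⁻¹ * L.e v * (L.g0 * s * L.g0⁻¹)⁻¹ * (L.e v)⁻¹ by group] at h1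
  obtain ⟨y, hy⟩ := L.Y_le ((htop.ge (Subgroup.mem_top g)) v hv)
  refine ⟨y, ?_, by rw [map_mul, hy]; group⟩
  show L.e y ∈ L.Y
  exact hy ▸ (htop.ge (Subgroup.mem_top g)) v hv

/-- Conjugation in the group changes elements of the core only by elements centralizing `U`. -/
theorem conj_qb (g : L.G) {w : S} (hw : w ∈ L.qb) :
    ∃ c ∈ L.qb ⊓ H.qb, (∀ v ∈ U, Commute v c) ∧ g * L.e w * g⁻¹ = L.e (c * w) := by
  obtain ⟨w', hwe⟩ := L.Q_le (L.pup.Qn.conj_mem _ hw g)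
  have hw' : w' ∈ L.qb := show L.e w' ∈ L.Q from hwe ▸ L.pup.Qn.conj_mem _ hw g
  have hU : ∀ v ∈ U, Commute v (w' * w⁻¹) := by
    intro v hv
    obtain ⟨y, hy, hyv⟩ := o.trivial_quot g⁻¹ hv
    have hk : ⁅v, w⁆ ∈ L.cb := o.comm_cb hv hw
    have h1 : ⁅v, w'⁆ = ⁅v, w⁆ := L.inj (by
      have h2 : ⁅L.e v, g * L.e w * g⁻¹⁆ = g * ⁅g⁻¹ * L.e v * g⁻¹⁻¹, L.e w⁆ * g⁻¹ := by
        simp only [commutatorElement_def]; group
      rw [map_commutatorElement, hwe, h2, hyv, ← map_commutatorElement,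
        comm_mul_left_of_commute (L.commute_qb_yb hw hy) (L.cb_le_center hk),
        Subgroup.mem_center_iff.1 (L.cb_central hk) g, mul_inv_cancel_right])
    have hk' := L.cb_le_center hk
    rw [← commutatorElement_eq_one_iff_commute, comm_mul_right, h1,
      comm_inv_right_center hk', conj_center (inv_mem hk'), mul_inv_cancel]
  refine ⟨w' * w⁻¹, Subgroup.mem_inf.2 ⟨mul_mem hw' (inv_mem hw), H.mem_qb fun y hy => hU y (o.H_le hy)⟩, hU, ?_⟩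
  rw [inv_mul_cancel_right, hwe]

/-- The intersection of the two cores is normal in the group. -/
theorem inf_normal (g : L.G) {w : S} (hw : w ∈ L.qb ⊓ H.qb) :
    ∃ w' ∈ L.qb ⊓ H.qb, L.e w' = g * L.e w * g⁻¹ := by
  obtain ⟨c, hc, -, he⟩ := o.conj_qb g hw.1
  exact ⟨c * w, mul_mem hc hw, he.symm⟩

end Opp

end Cfsg.Agent.PushUp
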