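import Cfsg.Agent.Lib.Fusion.ThreeTransfer.Hull

/-!
# An element of the hull which `S` fixes modulo `U` is fixed by the group

An abelian normal subgroup built from a conjugate is compared with an abelian subgroup of largest order.
-/

set_option autoImplicit false

open scoped commutatorElement

namespace Cfsg.Agent.PushUp

open Cfsg

universe u

variable {S : Type u} [Group S] [Finite S] {p : ℕ}

theorem relIndex_sup_left_normal {N H : Subgroup S} [N.Normal] : H.relIndex (N ⊔ H) = H.relIndex N := by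
  have h1 : H.relIndex (N ⊔ H) * Nat.card H = Nat.card (N ⊔ H : Subgroup S) :=
    LocalEven.DispCount.relIndex_mul_card le_sup_right
  rw [card_sup_normal' N H] at h1
  exact Nat.eq_of_mul_eq_mul_right Nat.card_pos h1

namespace Opp

variable {U : Subgroup S} {L H : Leg S p} (o : Opp U L H)
include o

theorem line_inf {z : S} (h1 : z ∈ L.line) (h2 : z ∈ H.line) : z = 1 :=
  H.line_inf_cb o.odd h2 (o.lineL h1)

theorem relIndex_inf_bound {A : Subgroup S} (hA : ∀ a ∈ A, ∀ b ∈ A, Commute a b) (hsup : A ⊔ L.qb = ⊤) :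
    (A ⊓ (L.qb ⊓ H.qb)).relIndex A ≤
      ((L.yb ⊔ H.yb) ⊓ Subgroup.centralizer (A : Set S)).relIndex (L.yb ⊔ H.yb) := by
  set Y := L.yb ⊔ H.yb with hY
  set CY := Y ⊓ Subgroup.centralizer (A : Set S) with hCY
  obtain ⟨a₀, ha₀, ha₀L⟩ : ∃ a ∈ A, a ∉ L.qb := by
    by_contra hcon
    simp only [not_exists, not_and, not_not] at hcon
    obtain ⟨s, hs⟩ := L.exists_not_qb
    exact hs ((sup_le hcon le_rfl : A ⊔ L.qb ≤ L.qb) (hsup.ge (Subgroup.mem_top s)))
  have hsplit : ∀ x ∈ CY, ∃ v ∈ Subgroup.center S, ∃ v' ∈ H.yb, v * v' = x ∧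
      ∀ a ∈ A, Commute v' a := by
    intro x hx
    obtain ⟨v, hv, v', hv', rfl⟩ := Subgroup.mem_sup_of_normal_left.1 (hx.1 : x ∈ L.yb ⊔ H.yb)
    have h : ∀ a ∈ A, ⁅v, a⁆ = 1 ∧ ⁅v', a⁆ = 1 := by
      intro a ha
      have h1 : ⁅v * v', a⁆ = 1 :=
        commutatorElement_eq_one_iff_commute.2 (Subgroup.mem_centralizer_iff.1 hx.2 a ha).symm
      rw [comm_mul_left_center (H.comm_yb_center hv' a)] at h1
      have h2 : ⁅v, a⁆ = 1 := o.line_inf (L.comm_mem_line hv a) (by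
        rw [show ⁅v, a⁆ = ⁅v', a⁆⁻¹ from eq_inv_of_mul_eq_one_right h1]
        exact inv_mem (H.comm_mem_line hv' a))
      rw [h2, mul_one] at h1
      exact ⟨h2, h1⟩
    exact ⟨v, L.cent' ha₀L hv (commutatorElement_eq_one_iff_commute.1 (h a₀ ha₀).1), v', hv', rfl,
      fun a ha => commutatorElement_eq_one_iff_commute.1 (h a ha).2⟩
  have hinf : L.yb ⊓ H.yb ≤ Subgroup.center S := fun v hv => L.cent' ha₀L hv.1
    (commutatorElement_eq_one_iff_commute.1 (o.line_inf (L.comm_mem_line hv.1 a₀) (H.comm_mem_line hv.2 a₀)))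
  have hrelH : H.yb.relIndex Y = L.q := by
    rw [hY, Subgroup.relIndex_sup_right, ← L.idxY, ← Subgroup.inf_relIndex_right H.yb L.yb, inf_comm]
    exact congrArg (Subgroup.relIndex · L.yb) (le_antisymm hinf (le_inf L.center_le_yb H.center_le_yb))
  rw [Subgroup.inf_relIndex_left]
  by_cases hAH : A ≤ H.qb
  · have h1 : (L.qb ⊓ H.qb).relIndex A ≤ L.q := by
      rw [← Subgroup.inf_relIndex_right, inf_assoc, inf_eq_right.2 hAH, Subgroup.inf_relIndex_right,
        ← L.idx, ← Subgroup.relIndex_top_right]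
      exact Subgroup.relIndex_le_of_le_right le_top Subgroup.index_ne_zero_of_finite
    refine h1.trans (hrelH ▸ Subgroup.relIndex_le_of_le_left ?_ (relIndex_ne_zero' _ _))
    intro x hx
    obtain ⟨v, hv, v', hv', rfl, -⟩ := hsplit x hx
    exact mul_mem (H.center_le_yb hv) hv'
  obtain ⟨a₁, ha₁, ha₁H⟩ := SetLike.not_le_iff_exists.1 hAH
  have hCYz : CY ≤ Subgroup.center S := by
    intro x hx
    obtain ⟨v, hv, v', hv', rfl, hc⟩ := hsplit x hx
    exact mul_mem hv (H.cent' ha₁H hv' (hc a₁ ha₁))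
  have hrelZ : (Subgroup.center S).relIndex Y = H.q * L.q := by
    rw [← Subgroup.relIndex_mul_relIndex _ _ _ H.center_le_yb (le_sup_right : H.yb ≤ Y), H.idxY, hrelH]
  calc (L.qb ⊓ H.qb).relIndex A ≤ (L.qb ⊓ H.qb).index := by
        rw [← Subgroup.relIndex_top_right]
        exact Subgroup.relIndex_le_of_le_right le_top Subgroup.index_ne_zero_of_finite
    _ ≤ L.qb.index * H.qb.index := Subgroup.index_inf_le
    _ = (Subgroup.center S).relIndex Y := by rw [hrelZ, L.idx, H.idx, mul_comm]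
    _ ≤ _ := Subgroup.relIndex_le_of_le_left hCYz (relIndex_ne_zero' _ _)

/-- If `S` fixes an element of the hull modulo `U`, the group does, and the two cores centralize it. -/
theorem fixed {v : S} (hvP : v ∈ L.qb ⊓ H.qb) (hvc : ∀ d ∈ L.qb ⊓ H.qb, ⁅v, d⁆ ∈ L.line)
    (hvU : ∀ w ∈ U, Commute v w) (hv : ∀ s : S, ⁅v, s⁆ ∈ U) :
    (∀ g : L.G, ∃ w ∈ U, g * L.e v * g⁻¹ = L.e (w * v)) ∧ ∀ d ∈ L.qb ⊓ H.qb, ⁅v, d⁆ = 1 := by
  set P := L.qb ⊓ H.qb with hPdef
  haveI := o.flat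
  haveI := o.Un
  haveI hPn : P.Normal := Subgroup.normal_inf_normal _ _
  set x := L.g0 with hxdef
  obtain ⟨a, haP, hae⟩ := o.inf_normal x hvP
  -- commutators with the core lie in a conjugate of `[Y, S]`
  have hline : ∀ f ∈ P, ∃ l ∈ L.line, L.e ⁅a, f⁆ = x * L.e l * x⁻¹ := by
    intro f hf
    obtain ⟨f', hf', hfe⟩ := o.inf_normal x⁻¹ hf
    refine ⟨_, hvc f' hf', ?_⟩
    rw [map_commutatorElement, map_commutatorElement, hfe, hae]
    simp only [commutatorElement_def]; group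
  have hlc : ∀ c l : S, l ∈ L.line → L.e c = x * L.e l * x⁻¹ → c ∈ Subgroup.center S → c = 1 := by
    intro c l hl he hc
    have he' : x⁻¹ * L.e c * x = L.e l := by rw [he]; group
    have hcb : c ∈ L.cb := L.pup.mem_cenIn L.hg (L.e_mem_zS.2 hc)
      (he'.symm ▸ L.e_mem_zS.2 (L.line_le_center hl))
    have hcl : c = l := L.inj (by
      rw [← he', mul_assoc, ← Subgroup.mem_center_iff.1 (L.cb_central hcb) x, inv_mul_cancel_left])
    exact L.line_inf_cb o.odd (hcl ▸ hl) hcb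
  have hYab : ∀ f ∈ P, ⁅a, f⁆ ∈ L.yb := by
    intro f hf
    obtain ⟨l, hl, he⟩ := hline f hf
    show L.e ⁅a, f⁆ ∈ L.Y
    rw [he]
    exact L.pup.Yn.conj_mem _ (L.line_le_yb hl) x
  -- the core fixes `a` modulo `U`
  have hqb : ∀ w ∈ L.qb, ∃ u ∈ U, w * a * w⁻¹ = a * u := by
    intro w hw
    obtain ⟨s, hse⟩ := L.Q_le (L.pup.Qn.conj_mem _ hw x⁻¹)
    have hvs : ⁅v⁻¹, s⁆ ∈ U := by
      rw [show ⁅v⁻¹, s⁆ = v⁻¹ * ⁅v, s⁆⁻¹ * v⁻¹⁻¹ by simp only [commutatorElement_def]; group]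
      exact ‹U.Normal›.conj_mem _ (inv_mem (hv s)) _
    obtain ⟨u, hu, hue⟩ := o.flat.conj_mem _ ⟨_, hvs, rfl⟩ x
    refine ⟨u, hu, L.inj ?_⟩
    rw [map_mul, map_mul, map_mul, map_inv, hue, hae, map_commutatorElement, map_inv, hse]
    simp only [commutatorElement_def]; group
  have hqbf : ∀ w ∈ L.qb, ∀ f ∈ P, ⁅w * a * w⁻¹, f⁆ = ⁅a, f⁆ := by
    intro w hw f hf
    obtain ⟨u, hu, hue⟩ := hqb w hw
    have hfL : f ∈ L.qb := hf.1
    have hc : ⁅u, f⁆ ∈ L.cb := o.comm_cb hu hfL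
    have h1 : ⁅w * a * w⁻¹, f⁆ = ⁅u, f⁆ * ⁅a, f⁆ := by rw [hue, comm_mul_left_center (L.cb_le_center hc)]
    have hf' : w⁻¹ * f * w ∈ P := by simpa using hPn.conj_mem f hf w⁻¹
    have h2 : ⁅w * a * w⁻¹, f⁆ = ⁅a, w⁻¹ * f * w⁆ := by
      rw [show ⁅w * a * w⁻¹, f⁆ = w * ⁅a, w⁻¹ * f * w⁆ * w⁻¹ by simp only [commutatorElement_def]; group,
        ← (L.commute_qb_yb hw (hYab _ hf')).eq, mul_inv_cancel_right]
    obtain ⟨l, hl, he⟩ := hline f hf
    obtain ⟨l', hl', he'⟩ := hline _ hf'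
    rw [h1, hlc ⁅u, f⁆ (l' * l⁻¹) (mul_mem hl' (inv_mem hl)) ?_ (L.cb_le_center hc), one_mul]
    rw [show ⁅u, f⁆ = ⁅a, w⁻¹ * f * w⁆ * ⁅a, f⁆⁻¹ by rw [← h2, h1, mul_inv_cancel_right],
      map_mul, map_inv, he, he', map_mul, map_inv]
    group
  -- the conjugates of `a` commute
  have hconj : ∀ r : S, Commute a (r * a * r⁻¹) := by
    intro r
    suffices h : Commute (L.e v) (x⁻¹ * L.e r * x * L.e v * (x⁻¹ * L.e r * x)⁻¹) by
      have h1 := h.map (MulAut.conj x).toMonoidHom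
      have e1 : (MulAut.conj x).toMonoidHom (L.e v) = L.e a := by simp [hae]
      have e2 : (MulAut.conj x).toMonoidHom (x⁻¹ * L.e r * x * L.e v * (x⁻¹ * L.e r * x)⁻¹) =
          L.e (r * a * r⁻¹) := by
        simp [hae, mul_assoc]
      rw [e1, e2] at h1
      exact L.inj ((map_mul L.e _ _).trans (h1.eq.trans (map_mul L.e _ _).symm))
    set h := x⁻¹ * L.e r * x with hh
    by_cases hr : r ∈ L.qb
    · obtain ⟨s, hse⟩ := L.Q_le (L.pup.Qn.conj_mem _ hr x⁻¹)
      rw [inv_inv, ← hh] at hse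
      rw [← hse, ← map_inv, ← map_mul, ← map_mul]
      refine Commute.map ?_ L.e
      rw [show s * v * s⁻¹ = ⁅v, s⁆⁻¹ * (1 * v) by rw [one_mul]; simp only [commutatorElement_def]; group]
      exact (hvU _ (inv_mem (hv s))).mul_right ((Commute.one_right v).mul_right (Commute.refl v))
    · have hhM : h ∉ L.M := fun hc => hr (by
        have h1 : h ∈ L.Q := L.pup.ti x⁻¹ (fun hx => L.hg ((Subgroup.inv_mem_iff _).1 hx)) h hc
          ⟨r, by rw [hh]; group⟩
        have h2 := L.pup.Qn.conj_mem _ h1 x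
        rwa [show x * h * x⁻¹ = L.e r by rw [hh]; group] at h2)
      obtain ⟨b, hb, hbe⟩ := o.inf_normal h hvP
      obtain ⟨b', hb', hbe'⟩ := o.inf_normal h⁻¹ hvP
      refine commutatorElement_eq_one_iff_commute.1 ?_
      have hc1 := hvc b hb
      have hc2 : (h⁻¹ * L.e ⁅v, b⁆ * h) ∈ zS L.e.range := by
        rw [show h⁻¹ * L.e ⁅v, b⁆ * h = L.e ⁅v, b'⁆⁻¹ by
          rw [map_inv, map_commutatorElement, map_commutatorElement, hbe, hbe']
          simp only [commutatorElement_def]; group]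
        exact L.e_mem_zS.2 (inv_mem (L.line_le_center (hvc b' hb')))
      rw [← hbe, ← map_commutatorElement, L.line_inf_cb o.odd hc1
        (L.pup.mem_cenIn hhM (L.e_mem_zS.2 (L.line_le_center hc1)) hc2), map_one]
  -- an abelian normal subgroup
  set Y := L.yb ⊔ H.yb with hYdef
  haveI : Y.Normal := Subgroup.sup_normal L.yb H.yb
  set X := Subgroup.normalClosure ({a} : Set S) ⊔ Y with hXdef
  haveI : X.Normal := Subgroup.sup_normal _ _
  have hKP : Subgroup.normalClosure ({a} : Set S) ≤ P :=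
    Subgroup.normalClosure_le_normal (Set.singleton_subset_iff.2 haP)
  have hYP : Y ≤ P := sup_le o.yb_le.1 o.yb_le.2
  have hXP : X ≤ P := sup_le hKP hYP
  have hXc : X ≤ Subgroup.centralizer (X : Set S) := by
    have hY' : Y ≤ Subgroup.centralizer (X : Set S) := sup_le
      (fun y hy => Subgroup.mem_centralizer_iff.2 fun z hz => (L.commute_qb_yb (hXP hz).1 hy).symm.eq)
      (fun y hy => Subgroup.mem_centralizer_iff.2 fun z hz => (H.commute_qb_yb (hXP hz).2 hy).symm.eq)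
    refine sup_le ((Subgroup.closure_le _).2 fun z hz => ?_) hY'
    rw [SetLike.mem_coe, Subgroup.mem_centralizer_iff]
    have hle : X ≤ Subgroup.centralizer ({z} : Set S) := by
      refine sup_le ((Subgroup.closure_le _).2 fun z' hz' => ?_) fun y hy => ?_
      · rw [Group.mem_conjugatesOfSet_iff] at hz hz'
        obtain ⟨a', ha', hz⟩ := hz
        obtain ⟨a'', ha'', hz'⟩ := hz'
        rw [Set.mem_singleton_iff.1 ha'] at hz
        rw [Set.mem_singleton_iff.1 ha''] at hz'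
        obtain ⟨r, rfl⟩ := isConj_iff.1 hz
        obtain ⟨r', rfl⟩ := isConj_iff.1 hz'
        refine Subgroup.mem_centralizer_singleton_iff.2 ?_
        have h1 := (hconj (r⁻¹ * r')).map (MulAut.conj r).toMonoidHom
        have e : (MulAut.conj r).toMonoidHom (r⁻¹ * r' * a * (r⁻¹ * r')⁻¹) = r' * a * r'⁻¹ := by
          simp [mul_assoc]
        rw [e] at h1
        exact h1.symm.eq
      · exact Subgroup.mem_centralizer_singleton_iff.2 (Subgroup.mem_centralizer_iff.1 (hY' hy) z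
          (Subgroup.mem_sup_left (Subgroup.subset_closure hz))).symm
    exact fun w hw => Subgroup.mem_centralizer_singleton_iff.1 (hle hw)
  -- comparison with an abelian subgroup of largest order
  obtain ⟨A, hAc, hAmax, hAsup⟩ := L.exA
  have hA : ∀ b ∈ A, ∀ c ∈ A, Commute b c := fun b hb c hc =>
    congrArg Subtype.val (hAc.1.1 ⟨b, hb⟩ ⟨c, hc⟩)
  haveI : (L.Q.comap L.e).Normal := L.qb_normal
  set D := A ⊓ Subgroup.centralizer (X : Set S) with hD
  set C := X ⊓ Subgroup.centralizer (A : Set S) with hC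
  set CY := Y ⊓ Subgroup.centralizer (A : Set S) with hCY
  have hDP : D ≤ A ⊓ P := le_inf inf_le_left fun d hd =>
    ⟨L.mem_qb fun y hy => Subgroup.mem_centralizer_iff.1 hd.2 y
        (Subgroup.mem_sup_right (Subgroup.mem_sup_left hy)),
      H.mem_qb fun y hy => Subgroup.mem_centralizer_iff.1 hd.2 y
        (Subgroup.mem_sup_right (Subgroup.mem_sup_right hy))⟩
  have hcount : (Y ⊔ C).relIndex X ≤ D.relIndex (A ⊓ P) := by
    have hXD : IsMulCommutative (X ⊔ D : Subgroup S) := by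
      have h2 : X ⊔ D ≤ Subgroup.centralizer ((X ⊔ D : Subgroup S) : Set S) := by
        have h3 : X ⊔ D ≤ Subgroup.centralizer (X : Set S) := sup_le hXc inf_le_right
        refine sup_le (Subgroup.le_centralizer_iff.1 h3) (Subgroup.le_centralizer_iff.1 (sup_le ?_ ?_))
        · exact Subgroup.le_centralizer_iff.1 inf_le_right
        · exact fun d hd => Subgroup.mem_centralizer_iff.2 fun d' hd' => (hA d' hd'.1 d hd.1).eq
      exact ⟨⟨fun b c => Subtype.ext (Subgroup.mem_centralizer_iff.1 (h2 c.2) b b.2)⟩⟩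
    have h1 := hAmax _ hXD
    rw [card_sup_normal' X D, ← LocalEven.DispCount.relIndex_mul_card (inf_le_left : D ≤ A)] at h1
    have h2 : D.relIndex X ≤ D.relIndex A := Nat.le_of_mul_le_mul_right h1 Nat.card_pos
    have h3 : C.relIndex X ≤ D.relIndex X := by
      rw [← Subgroup.inf_relIndex_right D X]
      refine Subgroup.relIndex_le_of_le_left ?_ (relIndex_ne_zero' _ _)
      exact fun d hd => ⟨hd.2, Subgroup.mem_centralizer_iff.2 fun b hb => (hA b hb d hd.1.1).eq⟩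
    have h4 : C.relIndex X = CY.relIndex Y * (Y ⊔ C).relIndex X := by
      rw [← Subgroup.relIndex_mul_relIndex C (Y ⊔ C) X le_sup_right (sup_le le_sup_right inf_le_left),
        relIndex_sup_left_normal, ← Subgroup.inf_relIndex_right C Y]
      congr 2
      exact le_antisymm (fun z hz => ⟨hz.2, hz.1.2⟩)
        fun z hz => ⟨⟨Subgroup.mem_sup_right hz.1, hz.2⟩, hz.1⟩
    have h5 : D.relIndex A ≤ D.relIndex (A ⊓ P) * CY.relIndex Y := by
      rw [← Subgroup.relIndex_mul_relIndex D (A ⊓ P) A hDP inf_le_left]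
      exact Nat.mul_le_mul_left _ (o.relIndex_inf_bound hA hAsup)
    rw [h4] at h3
    have h6 := (h3.trans h2).trans h5
    rw [mul_comm (D.relIndex (A ⊓ P))] at h6
    exact Nat.le_of_mul_le_mul_left h6 (Nat.pos_of_ne_zero (relIndex_ne_zero' _ _))
  have hcent : ∀ f ∈ A ⊓ P, ⁅a, f⁆ = 1 → f ∈ D := by
    intro f hf h1
    refine ⟨hf.1, Subgroup.mem_centralizer_iff.2 fun z hz => ?_⟩
    have hle : X ≤ Subgroup.centralizer ({f} : Set S) := by
      refine sup_le ((Subgroup.closure_le _).2 fun z' hz' => ?_) (sup_le ?_ ?_)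
      · rw [Group.mem_conjugatesOfSet_iff] at hz'
        obtain ⟨a'', ha'', hz'⟩ := hz'
        rw [Set.mem_singleton_iff.1 ha''] at hz'
        obtain ⟨r, rfl⟩ := isConj_iff.1 hz'
        obtain ⟨α, hα, w, hw, rfl⟩ := Subgroup.mem_sup_of_normal_right.1 (hAsup.ge (Subgroup.mem_top r))
        refine Subgroup.mem_centralizer_singleton_iff.2 (commutatorElement_eq_one_iff_mul_comm.1 ?_)
        have hf' : f = α * f * α⁻¹ := by rw [(hA α hα f hf.1).eq, mul_inv_cancel_right]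
        rw [hf', show α * w * a * (α * w)⁻¹ = α * (w * a * w⁻¹) * α⁻¹ by group,
          show ⁅α * (w * a * w⁻¹) * α⁻¹, α * f * α⁻¹⁆ = α * ⁅w * a * w⁻¹, f⁆ * α⁻¹ by
            simp only [commutatorElement_def]; group, hqbf w hw f hf.2, h1, mul_one, mul_inv_cancel]
      · exact fun y hy => Subgroup.mem_centralizer_singleton_iff.2 (L.commute_qb_yb hf.2.1 hy).eq
      · exact fun y hy => Subgroup.mem_centralizer_singleton_iff.2 (H.commute_qb_yb hf.2.2 hy).eq
    exact Subgroup.mem_centralizer_singleton_iff.1 (hle hz)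
  have haX : a ∈ X := Subgroup.mem_sup_left (Subgroup.subset_normalClosure rfl)
  -- nothing in `A` moves `a`
  have hAP : A ⊓ P ≤ D := by
    intro f hf
    refine hcent f hf (by_contra fun hm => ?_)
    set m := ⁅a, f⁆ with hmdef
    obtain ⟨l₀, hl₀, hl₀e⟩ := hline f hf.2
    have hmY : m ∈ L.yb := hYab f hf.2
    have hmz : m ∉ Subgroup.center S := fun hc => hm (hlc m l₀ hl₀ hl₀e hc)
    let φ : X →* S :=
    { toFun := fun z => ⁅(z : S), f⁆
      map_one' := commutatorElement_one_left f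
      map_mul' := fun z₁ z₂ => by
        have hy : ∀ z ∈ X, ⁅z, f⁆ ∈ L.yb := by
          intro z hz
          refine (Subgroup.closure_le (L.yb.comap (MonoidHom.id S))).2 ?_ (Subgroup.subset_closure
            (show ⁅z, f⁆ ∈ {c | ∃ z ∈ X, ⁅z, f⁆ = c} from ⟨z, hz, rfl⟩))
          rintro _ ⟨z, hz, rfl⟩
          obtain ⟨k, hk, y, hy, rfl⟩ := Subgroup.mem_sup_of_normal_right.1 hz
          have hyf : Commute y f := by
            obtain ⟨y1, hy1, y2, hy2, rfl⟩ := Subgroup.mem_sup_of_normal_left.1 hy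
            exact (L.commute_qb_yb hf.2.1 hy1).mul_left (H.commute_qb_yb hf.2.2 hy2)
          show ⁅k * y, f⁆ ∈ L.yb
          rw [comm_mul_left, commutatorElement_eq_one_iff_commute.2 hyf, mul_one, mul_inv_cancel, one_mul]
          refine Subgroup.closure_induction (p := fun k _ => ⁅k, f⁆ ∈ L.yb) ?_ ?_ ?_ ?_ hk
          · intro z' hz'
            rw [Group.mem_conjugatesOfSet_iff] at hz'
            obtain ⟨a'', ha'', hz'⟩ := hz'
            rw [Set.mem_singleton_iff.1 ha''] at hz'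
            obtain ⟨r, rfl⟩ := isConj_iff.1 hz'
            obtain ⟨α, hα, w, hw, rfl⟩ := Subgroup.mem_sup_of_normal_right.1 (hAsup.ge (Subgroup.mem_top r))
            rw [show ⁅α * w * a * (α * w)⁻¹, f⁆ = α * ⁅w * a * w⁻¹, α⁻¹ * f * α⁆ * α⁻¹ by
              simp only [commutatorElement_def]; group, mul_assoc α⁻¹, ← (hA α hα f hf.1).eq,
              inv_mul_cancel_left, hqbf w hw f hf.2]
            exact L.yb_normal.conj_mem _ hmY α
          · rw [commutatorElement_one_left]; exact one_mem _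
          · intro k₁ k₂ _ _ h₁ h₂
            rw [comm_mul_left]
            exact mul_mem (L.yb_normal.conj_mem _ h₂ k₁) h₁
          · intro k₁ _ h₁
            rw [show ⁅k₁⁻¹, f⁆ = k₁⁻¹ * ⁅k₁, f⁆⁻¹ * k₁⁻¹⁻¹ by simp only [commutatorElement_def]; group]
            exact L.yb_normal.conj_mem _ (inv_mem h₁) k₁⁻¹
        show ⁅(z₁ : S) * z₂, f⁆ = ⁅(z₁ : S), f⁆ * ⁅(z₂ : S), f⁆
        rw [comm_mul_left, ← (L.commute_qb_yb (hXP z₁.2).1 (hy _ z₂.2)).eq, mul_inv_cancel_right]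
        exact (L.commute_yb (hy _ z₂.2) (hy _ z₁.2)).eq }
    let ψ : (A ⊓ P : Subgroup S) →* S :=
    { toFun := fun d => ⁅a, (d : S)⁆
      map_one' := commutatorElement_one_right a
      map_mul' := fun d₁ d₂ => by
        show ⁅a, (d₁ : S) * d₂⁆ = ⁅a, (d₁ : S)⁆ * ⁅a, (d₂ : S)⁆
        rw [comm_mul_right, ← (L.commute_qb_yb d₁.2.2.1 (hYab _ d₂.2.2)).eq, mul_inv_cancel_right] }
    have hψ : Nat.card ψ.range ≤ Nat.card L.line := by
      have h1 : ψ.range.map L.e ≤ (L.line.map L.e).map (MulAut.conj x).toMonoidHom := by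
        rintro _ ⟨_, ⟨d, rfl⟩, rfl⟩
        obtain ⟨l, hl, he⟩ := hline d d.2.2
        exact ⟨_, ⟨l, hl, rfl⟩, he.symm⟩
      rw [← Subgroup.card_map_of_injective (K := ψ.range) L.inj, ← Subgroup.card_map_of_injective (K := L.line) L.inj,
        ← Subgroup.card_map_of_injective (K := L.line.map L.e) (f := (MulAut.conj x).toMonoidHom)
          (MulAut.conj x).injective]
      exact Subgroup.card_le_of_le h1
    have hD' : D.relIndex (A ⊓ P) = Nat.card ψ.range := by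
      rw [← Subgroup.index_ker, Subgroup.relIndex]
      congr 1
      ext d
      exact ⟨fun hd => commutatorElement_eq_one_iff_commute.2 (Subgroup.mem_centralizer_iff.1 hd.2 a haX),
        fun hd => hcent _ d.2 hd⟩
    have hφ : Nat.card φ.range ≤ (Y ⊔ C).relIndex X := by
      rw [← Subgroup.index_ker]
      refine Subgroup.index_antitone (fun z hz => ?_)
      obtain ⟨y, hy, c, hc, hzc⟩ := Subgroup.mem_sup_of_normal_left.1 (Subgroup.mem_subgroupOf.1 hz)
      show ⁅(z : S), f⁆ = 1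
      refine commutatorElement_eq_one_iff_commute.2 ?_
      rw [← hzc]
      refine Commute.mul_left ?_ (Subgroup.mem_centralizer_iff.1 hc.2 f hf.1).symm
      obtain ⟨y1, hy1, y2, hy2, rfl⟩ := Subgroup.mem_sup_of_normal_left.1 hy
      exact (L.commute_qb_yb hf.2.1 hy1).mul_left (H.commute_qb_yb hf.2.2 hy2)
    have hlt : Nat.card L.line < Nat.card φ.range := by
      have hφa : φ ⟨a, haX⟩ = m := rfl
      have hle : L.line ≤ φ.range := by
        intro l hl
        obtain ⟨s, hs⟩ := L.exists_comm o.odd hmY hmz hl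
        obtain ⟨α, hα, w, hw, rfl⟩ := Subgroup.mem_sup_of_normal_right.1 (hAsup.ge (Subgroup.mem_top s))
        rw [comm_mul_right, commutatorElement_eq_one_iff_commute.2 (L.commute_qb_yb hw hmY), mul_one,
          mul_inv_cancel, mul_one] at hs
        have h1 : φ ⟨α * a * α⁻¹, ‹X.Normal›.conj_mem a haX α⟩ = α * m * α⁻¹ := by
          show ⁅α * a * α⁻¹, f⁆ = α * ⁅a, f⁆ * α⁻¹
          conv_lhs => rw [show f = α * f * α⁻¹ by rw [(hA α hα f hf.1).eq, mul_inv_cancel_right]]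
          simp only [commutatorElement_def]; group
        rw [← hs, show ⁅m, α⁆ = m * (α * m * α⁻¹)⁻¹ by simp only [commutatorElement_def]; group, ← h1, ← hφa]
        exact mul_mem ⟨_, rfl⟩ (inv_mem ⟨_, rfl⟩)
      by_contra hge
      exact hmz (L.line_le_center (Subgroup.eq_of_le_of_card_ge hle (not_lt.1 hge) ▸ ⟨_, hφa⟩))
    omega
  -- hence the group fixes `v` modulo `U`
  have hX' : X ≤ Y ⊔ C := by
    refine Subgroup.relIndex_eq_one.1 ?_
    have h1 : D.relIndex (A ⊓ P) = 1 := Subgroup.relIndex_eq_one.2 hAP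
    have h2 := Nat.pos_of_ne_zero (relIndex_ne_zero' (Y ⊔ C) X)
    omega
  have haA : ∀ α ∈ A, ⁅a, α⁆ ∈ U := by
    intro α hα
    obtain ⟨y, hy, c, hc, hac⟩ := Subgroup.mem_sup_of_normal_left.1 (hX' haX)
    rw [← hac, comm_mul_left, commutatorElement_eq_one_iff_commute.2
      (Subgroup.mem_centralizer_iff.1 hc.2 α hα).symm, mul_one, mul_inv_cancel, one_mul]
    have hyU : y ∈ U := sup_le o.L_le o.H_le hy
    rw [show ⁅y, α⁆ = y * (α * y⁻¹ * α⁻¹) by simp only [commutatorElement_def]; group]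
    exact mul_mem hyU (‹U.Normal›.conj_mem _ (inv_mem hyU) _)
  let K : Subgroup L.G :=
  { carrier := {g | g * L.e v * g⁻¹ * (L.e v)⁻¹ ∈ U.map L.e}
    one_mem' := by
      show _ ∈ U.map L.e
      rw [one_mul, inv_one, mul_one, mul_inv_cancel]
      exact one_mem _
    mul_mem' := fun {g g'} hg hg' => by
      show g * g' * L.e v * (g * g')⁻¹ * (L.e v)⁻¹ ∈ U.map L.e
      rw [show g * g' * L.e v * (g * g')⁻¹ * (L.e v)⁻¹ =
        (g * (g' * L.e v * g'⁻¹ * (L.e v)⁻¹) * g⁻¹) * (g * L.e v * g⁻¹ * (L.e v)⁻¹) by group]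
      exact mul_mem (o.flat.conj_mem _ hg' g) hg
    inv_mem' := fun {g} hg => by
      have h1 := o.flat.conj_mem _ (inv_mem hg) g⁻¹
      rwa [show g⁻¹ * (g * L.e v * g⁻¹ * (L.e v)⁻¹)⁻¹ * g⁻¹⁻¹ = g⁻¹ * L.e v * g⁻¹⁻¹ * (L.e v)⁻¹ by
        group] at h1 }
  have hK : K = ⊤ := by
    refine L.gen (g := x⁻¹) (fun hx => L.hg ((Subgroup.inv_mem_iff _).1 hx)) K ?_ ?_
    · rintro _ ⟨s, rfl⟩
      show L.e s * L.e v * (L.e s)⁻¹ * (L.e v)⁻¹ ∈ U.map L.e
      rw [show L.e s * L.e v * (L.e s)⁻¹ * (L.e v)⁻¹ = L.e ⁅v, s⁆⁻¹ by simp [commutatorElement_def, mul_assoc]]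
      exact ⟨_, inv_mem (hv s), rfl⟩
    · rintro _ ⟨r, rfl⟩
      show x⁻¹ * L.e r * x⁻¹⁻¹ * L.e v * (x⁻¹ * L.e r * x⁻¹⁻¹)⁻¹ * (L.e v)⁻¹ ∈ U.map L.e
      obtain ⟨α, hα, w, hw, rfl⟩ := Subgroup.mem_sup_of_normal_right.1 (hAsup.ge (Subgroup.mem_top r))
      obtain ⟨u, hu, hwu⟩ := hqb w hw
      have hrU : α * w * a * (α * w)⁻¹ * a⁻¹ ∈ U := by
        rw [show α * w * a * (α * w)⁻¹ = ⁅a, α⁆⁻¹ * a * (α * u * α⁻¹) by
          rw [show α * w * a * (α * w)⁻¹ = α * (w * a * w⁻¹) * α⁻¹ by group, hwu]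
          simp only [commutatorElement_def]; group, mul_assoc, mul_assoc, ← mul_assoc a]
        exact mul_mem (inv_mem (haA α hα))
          (‹U.Normal›.conj_mem _ (‹U.Normal›.conj_mem _ hu α) a)
      have h1 := o.flat.conj_mem _ ⟨_, hrU, rfl⟩ x⁻¹
      rw [map_mul, map_mul, map_mul, map_inv, map_inv, hae] at h1
      convert h1 using 1
      group
  have hfix : ∀ g : L.G, ∃ w ∈ U, g * L.e v * g⁻¹ = L.e (w * v) := by
    intro g
    obtain ⟨w, hw, hwe⟩ := hK.ge (Subgroup.mem_top g)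
    exact ⟨w, hw, by rw [map_mul, hwe, inv_mul_cancel_right]⟩
  refine ⟨hfix, fun d hd => ?_⟩
  obtain ⟨w, hw, hwe⟩ := hfix x
  have haw : a = w * v := L.inj (hae.trans hwe)
  have hz1 : ⁅v, d⁆ ∈ Subgroup.center S := L.line_le_center (hvc d hd)
  have hc : ⁅w, d⁆ ∈ L.cb := o.comm_cb hw hd.1
  have h1 : ⁅a, d⁆ = ⁅v, d⁆ * ⁅w, d⁆ := by rw [haw, comm_mul_left_center hz1]
  obtain ⟨l, hl, he⟩ := hline d hd
  have h2 : ⁅a, d⁆ = 1 := hlc _ l hl he (h1 ▸ mul_mem hz1 (L.cb_le_center hc))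
  refine L.line_inf_cb o.odd (hvc d hd) ?_
  rw [show ⁅v, d⁆ = ⁅w, d⁆⁻¹ from eq_inv_of_mul_eq_one_left (h1 ▸ h2)]
  exact inv_mem hc

end Opp

end Cfsg.Agent.PushUp
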