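import Cfsg.Agent.Lib.Fusion.ThreeTransfer.HullCount

/-!
# The hull of a `Y` lies in `U`
-/

set_option autoImplicit false

open scoped commutatorElement

namespace Cfsg.Agent.PushUp

open Cfsg

universe u

variable {S : Type u} [Group S] [Finite S] {p : ℕ}

namespace Opp

variable {U : Subgroup S} {L H : Leg S p} (o : Opp U L H)
include o

/-- An element of an abelian normal subgroup of the cores which `S` fixes modulo `U` lies in `U`. -/
theorem mem_of_fixed {W : Subgroup S} [W.Normal] (hW : ∀ a ∈ W, ∀ b ∈ W, Commute a b)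
    (hWP : W ≤ L.qb ⊓ H.qb) (hWc : ∀ w ∈ W, ∀ d ∈ H.qb, ⁅w, d⁆ ∈ L.line)
    {v : S} (hvW : v ∈ W) (hvp : v ^ p = 1) (hv : ∀ s : S, ⁅v, s⁆ ∈ U) : v ∈ U := by
  have hUn := o.Un
  have hWU : ∀ a ∈ W, ∀ w ∈ U, Commute a w := o.U_commute W inferInstance hW
  obtain ⟨hfix, hcP⟩ := o.fixed (hWP hvW) (fun d hd => hWc v hvW d hd.2) (hWU v hvW) hv
  obtain ⟨z, σ, hσ, hσfix, hinv, hq⟩ := L.exists_negator
  obtain ⟨u₁, hu₁, hu₁e⟩ := hfix z
  have hσv : σ v = u₁ * v := L.inj ((hσ v).trans hu₁e)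
  obtain ⟨y, hy, hyc⟩ := o.split u₁ hu₁
  have hkey : ∀ h ∈ H.qb, ⁅v * v * y, h⁆ = 1 := by
    intro h hh
    set q := σ h * h⁻¹ with hqdef
    have hqL : q ∈ L.qb := hq h
    set u := ⁅v, q⁆ with hudef
    have huU : u ∈ U := hv q
    have huW' : u ∈ W := by
      have h1 : v * (q * v⁻¹ * q⁻¹) ∈ W := mul_mem hvW (‹W.Normal›.conj_mem _ (inv_mem hvW) q)
      rwa [show v * (q * v⁻¹ * q⁻¹) = u by rw [hudef]; simp only [commutatorElement_def]; group] at h1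
    have hk : ⁅v, h⁆ ∈ L.line := hWc v hvW h hh
    have hkz := L.line_le_center hk
    have hrz : ⁅y⁻¹ * u₁, q * h⁆ ∈ L.cb := hyc _
    have hσh : σ h = q * h := by rw [hqdef, inv_mul_cancel_right]
    have hu1 : ⁅u₁, q * h⁆ = ⁅y⁻¹ * u₁, q * h⁆ * ⁅y, h⁆ := by
      conv_lhs => rw [show u₁ = y * (y⁻¹ * u₁) by group]
      rw [comm_mul_left_center (L.cb_le_center hrz), comm_mul_right y,
        commutatorElement_eq_one_iff_commute.2 (L.commute_qb_yb hqL hy), one_mul,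
        conj_center (L.comm_yb_center hy h)]
    have hvq : ⁅v, q * h⁆ = u * ⁅v, h⁆ := by rw [comm_mul_right v, conj_center hkz]
    have hc : Commute u₁ (u * ⁅v, h⁆) :=
      (hWU u huW' u₁ hu₁).symm.mul_right (Subgroup.mem_center_iff.1 hkz u₁)
    have heq : ⁅v, h⁆⁻¹ = u * ⁅v, h⁆ * (⁅y⁻¹ * u₁, q * h⁆ * ⁅y, h⁆) := by
      rw [← hinv _ hk, map_commutatorElement, hσv, hσh, comm_mul_left, hvq, hc.eq, mul_inv_cancel_right,
        hu1]
    have huz : u ∈ Subgroup.center S := by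
      rw [show u = u * ⁅v, h⁆ * (⁅y⁻¹ * u₁, q * h⁆ * ⁅y, h⁆) * (⁅y⁻¹ * u₁, q * h⁆ * ⁅y, h⁆)⁻¹ * ⁅v, h⁆⁻¹ by
        group, ← heq]
      exact mul_mem (mul_mem (inv_mem hkz) (inv_mem (mul_mem (L.cb_le_center hrz) (L.comm_yb_center hy h))))
        (inv_mem hkz)
    have huc : u ∈ L.cb := by
      obtain ⟨c, hcP', hcU, hce⟩ := o.conj_qb L.g0⁻¹ hqL
      obtain ⟨w, hw, hwe⟩ := hfix L.g0⁻¹
      refine L.pup.mem_cenIn L.hg (L.e_mem_zS.2 huz) ?_
      have hcd : ⁅w, c * q⁆ ∈ L.cb := o.comm_cb hw (mul_mem hcP'.1 hqL)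
      have h1 : ⁅w * v, c * q⁆ = u * ⁅w, c * q⁆ := by
        have h2 : ⁅v, c * q⁆ = u := by
          rw [comm_mul_right v, hcP c hcP', one_mul, ← hudef, ← (hcU u huU).eq, mul_inv_cancel_right]
        rw [comm_mul_left_center (by rw [h2]; exact huz), h2]
      rw [show L.g0⁻¹ * L.e u * L.g0 = L.e (u * ⁅w, c * q⁆) by
        rw [← h1, map_commutatorElement L.e (w * v), ← hwe, ← hce, hudef, map_commutatorElement]
        simp only [commutatorElement_def]; group]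
      exact L.e_mem_zS.2 (mul_mem huz (L.cb_le_center hcd))
    have hcomm : Commute (⁅y⁻¹ * u₁, q * h⁆) ⁅v, h⁆ :=
      Subgroup.mem_center_iff.1 hkz _
    have htot : ⁅v * v * y, h⁆ = ⁅y, h⁆ * (⁅v, h⁆ * ⁅v, h⁆) := by
      rw [comm_mul_left_center (L.comm_yb_center hy h), comm_mul_left_center hkz]
    refine L.line_inf_cb o.odd (htot ▸ mul_mem (L.comm_mem_line hy h) (mul_mem hk hk)) ?_
    rw [htot]
    have h3 : ⁅y, h⁆ * (⁅v, h⁆ * ⁅v, h⁆) = (u * ⁅y⁻¹ * u₁, q * h⁆)⁻¹ := by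
      refine eq_inv_of_mul_eq_one_left ?_
      have h4 : ⁅v, h⁆ * (u * ⁅v, h⁆ * (⁅y⁻¹ * u₁, q * h⁆ * ⁅y, h⁆)) = 1 := by rw [← heq, mul_inv_cancel]
      have c1 := Subgroup.mem_center_iff.1 hkz
      have c2 := Subgroup.mem_center_iff.1 (L.comm_yb_center hy h)
      calc ⁅y, h⁆ * (⁅v, h⁆ * ⁅v, h⁆) * (u * ⁅y⁻¹ * u₁, q * h⁆)
          = ⁅v, h⁆ * ⁅v, h⁆ * (u * ⁅y⁻¹ * u₁, q * h⁆) * ⁅y, h⁆ := by rw [mul_assoc ⁅y, h⁆, c2]
        _ = ⁅v, h⁆ * (⁅v, h⁆ * u) * ⁅y⁻¹ * u₁, q * h⁆ * ⁅y, h⁆ := by group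
        _ = ⁅v, h⁆ * (u * ⁅v, h⁆) * ⁅y⁻¹ * u₁, q * h⁆ * ⁅y, h⁆ := by rw [c1 u]
        _ = 1 := by rw [← h4]; group
    rw [h3]
    exact inv_mem (mul_mem huc hrz)
  have hvvy : v * v * y ∈ H.qb := mul_mem (mul_mem (hWP hvW).2 (hWP hvW).2) (o.L_H hy)
  have h2 : v * v ∈ U := by
    have h1 : v * v * y ∈ U := o.H_le (H.mem_yb hvvy fun w hw =>
      (commutatorElement_eq_one_iff_commute.1 (hkey w hw)).symm)
    simpa using mul_mem h1 (inv_mem (o.L_le hy))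
  obtain ⟨m, hm⟩ := o.odd
  have h3 : v = (v * v) ^ (m + 1) := by
    rw [← pow_two, ← pow_mul, show 2 * (m + 1) = p + 1 by omega, pow_succ, hvp, one_mul]
  rw [h3]
  exact pow_mem h2 _

/-- The conjugates of the first `Y` in the second group lie in `U`. -/
theorem hull_le [hp : Fact p.Prime] (hS : IsPGroup p S) (g : H.G) {y : S} (hy : y ∈ L.yb) :
    g * H.e y * g⁻¹ ∈ U.map H.e := by
  set N := Subgroup.normalClosure (H.e '' (L.yb : Set S)) with hNdef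
  have hNn : N.Normal := Subgroup.normalClosure_normal
  set W := N.comap H.e with hWdef
  have : W.Normal := hNn.comap H.e
  let D : Subgroup S :=
  { carrier := {w | w ∈ H.qb ∧ ∀ d ∈ H.qb, ⁅w, d⁆ ∈ L.line}
    one_mem' := ⟨one_mem _, fun d _ => by rw [commutatorElement_one_left]; exact one_mem _⟩
    mul_mem' := fun {a b} ha hb => ⟨mul_mem ha.1 hb.1, fun d hd => by
      rw [comm_mul_left_center (L.line_le_center (hb.2 d hd))]
      exact mul_mem (hb.2 d hd) (ha.2 d hd)⟩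
    inv_mem' := fun {a} ha => ⟨inv_mem ha.1, fun d hd => by
      rw [comm_inv_left_center (L.line_le_center (ha.2 d hd))]
      exact inv_mem (ha.2 d hd)⟩ }
  have hgen : ∀ x ∈ Group.conjugatesOfSet (H.e '' (L.yb : Set S)), ∃ w ∈ D, H.e w = x := by
    intro x hx
    rw [Group.mem_conjugatesOfSet_iff] at hx
    obtain ⟨_, ⟨y', hy', rfl⟩, hc⟩ := hx
    obtain ⟨c, rfl⟩ := isConj_iff.1 hc
    obtain ⟨w, hwe⟩ := H.Q_le (H.pup.Qn.conj_mem _ (o.L_H hy') c)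
    refine ⟨w, ⟨show H.e w ∈ H.Q from hwe ▸ H.pup.Qn.conj_mem _ (o.L_H hy') c, fun d hd => ?_⟩, hwe⟩
    obtain ⟨d', hde⟩ := H.Q_le (H.pup.Qn.conj_mem _ hd c⁻¹)
    have h1 : ⁅w, d⁆ = ⁅y', d'⁆ := H.inj (by
      rw [← conj_eq_of_center (H.cb_central (o.lineL (L.comm_mem_line hy' d'))) c, map_commutatorElement,
        map_commutatorElement, hwe, hde]
      simp only [commutatorElement_def]; group)
    rw [h1]
    exact L.comm_mem_line hy' d'
  have hND : N ≤ D.map H.e := (Subgroup.closure_le _).2 fun x hx => hgen x hx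
  have hWD : W ≤ D := fun w hw => by
    obtain ⟨w', hw', he⟩ := hND (hw : H.e w ∈ N)
    rwa [← H.inj he]
  have hDL : ∀ w ∈ D, w ∈ L.qb := fun w hw => o.nq w fun d _ => by
    have h1 : ⁅d, w⁆ ∈ H.qb := mul_mem (H.qb_normal.conj_mem w hw.1 d) (inv_mem hw.1)
    rw [← commutatorElement_inv w ⁅d, w⁆]
    exact inv_mem (L.line_le_yb (hw.2 _ h1))
  have hWP : W ≤ L.qb ⊓ H.qb := fun w hw => ⟨hDL w (hWD hw), (hWD hw).1⟩
  have hcN : N ≤ Subgroup.centralizer (N : Set H.G) := by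
    refine (Subgroup.closure_le _).2 fun z hz => ?_
    rw [SetLike.mem_coe, Subgroup.mem_centralizer_iff]
    have hle : N ≤ Subgroup.centralizer ({z} : Set H.G) := by
      refine (Subgroup.closure_le _).2 fun z' hz' => Subgroup.mem_centralizer_singleton_iff.2 ?_
      rw [Group.mem_conjugatesOfSet_iff] at hz hz'
      obtain ⟨_, ⟨y₁, hy₁, rfl⟩, hz⟩ := hz
      obtain ⟨_, ⟨y₂, hy₂, rfl⟩, hz'⟩ := hz'
      obtain ⟨c₁, rfl⟩ := isConj_iff.1 hz
      obtain ⟨c₂, rfl⟩ := isConj_iff.1 hz'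
      have hmem : c₁⁻¹ * c₂ * H.e y₂ * (c₁⁻¹ * c₂)⁻¹ ∈ N :=
        hNn.conj_mem _ (Subgroup.subset_normalClosure ⟨y₂, hy₂, rfl⟩) _
      obtain ⟨w, hw, hwe⟩ := hND hmem
      have h1 : Commute (H.e y₁) (c₁⁻¹ * c₂ * H.e y₂ * (c₁⁻¹ * c₂)⁻¹) :=
        hwe ▸ (L.commute_qb_yb (hDL w hw) hy₁).map H.e
      have h2 := h1.map (MulAut.conj c₁).toMonoidHom
      have e : (MulAut.conj c₁).toMonoidHom (c₁⁻¹ * c₂ * H.e y₂ * (c₁⁻¹ * c₂)⁻¹) = c₂ * H.e y₂ * c₂⁻¹ := by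
        simp [mul_assoc]
      rw [e] at h2
      exact h2.symm.eq
    exact fun w hw => Subgroup.mem_centralizer_singleton_iff.1 (hle hw)
  have hWab : ∀ a ∈ W, ∀ b ∈ W, Commute a b := fun a ha b hb => H.inj (by
    rw [map_mul, map_mul]
    exact (Subgroup.mem_centralizer_iff.1 (hcN ha) _ hb).symm)
  have hpow : ∀ x ∈ N, x ^ p = 1 := by
    intro x hx
    refine Subgroup.closure_induction (p := fun x _ => x ^ p = 1) ?_ (one_pow p) ?_ ?_ hx
    · intro z hz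
      rw [Group.mem_conjugatesOfSet_iff] at hz
      obtain ⟨_, ⟨y', hy', rfl⟩, hc⟩ := hz
      obtain ⟨c, rfl⟩ := isConj_iff.1 hc
      rw [conj_pow, ← map_pow, L.yb_pow hy', map_one, mul_one, mul_inv_cancel]
    · intro a b ha hb h1 h2
      have hab : Commute a b := (Subgroup.mem_centralizer_iff.1 (hcN ha) b hb).symm
      rw [hab.mul_pow, h1, h2, one_mul]
    · intro a _ h1
      rw [inv_pow, h1, inv_one]
  have hWU : W ≤ U := by
    have := o.Un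
    by_contra hle
    set π := QuotientGroup.mk' U
    have hsurj : Function.Surjective π := QuotientGroup.mk'_surjective U
    have : (W.map π).Normal := Subgroup.Normal.map inferInstance π hsurj
    have hne : W.map π ≠ ⊥ := fun h0 => hle fun w hw => by
      rw [← QuotientGroup.eq_one_iff, ← QuotientGroup.mk'_apply, ← Subgroup.mem_bot, ← h0]
      exact ⟨w, hw, rfl⟩
    obtain ⟨_, ⟨v, hvW, rfl⟩, hvc, hv1⟩ := exists_center_mem (hS.to_quotient U) (W.map π) hne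
    refine hv1 ((QuotientGroup.eq_one_iff _).2 (o.mem_of_fixed hWab hWP (fun w hw => (hWD hw).2) hvW ?_ ?_))
    · exact H.inj (by rw [map_pow, hpow _ hvW, map_one])
    · intro s
      rw [← QuotientGroup.eq_one_iff, ← QuotientGroup.mk'_apply, map_commutatorElement,
        commutatorElement_eq_one_iff_mul_comm]
      exact (Subgroup.mem_center_iff.1 hvc (π s)).symm
  have hmem : g * H.e y * g⁻¹ ∈ N := hNn.conj_mem _ (Subgroup.subset_normalClosure ⟨y, hy, rfl⟩) g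
  obtain ⟨w, hw, hwe⟩ := hND hmem
  exact ⟨w, hWU (show H.e w ∈ N from hwe ▸ hmem), hwe⟩
where
  conj_eq_of_center {G : Type u} [Group G] {z : G} (hz : z ∈ Subgroup.center G) (c : G) :
      c * z * c⁻¹ = z := by
    rw [Subgroup.mem_center_iff.1 hz c, mul_inv_cancel_right]

end Opp

end Cfsg.Agent.PushUp
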