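import Cfsg.Agent.Lib.Fusion.ThreeTransfer.NoQuad

/-!
# The subgroup `[Y, S]` of a member in odd characteristic

An element of the normalizer of `S` acting as `-1` on the natural module inverts `[Y, S]`, so this subgroup
meets the centre of the group trivially.
-/

set_option autoImplicit false

open scoped commutatorElement

namespace Cfsg.Agent.PushUp

open Cfsg

universe u

variable {S : Type u} [Group S] {p : ℕ}

theorem eq_one_of_inv_self {G : Type*} [Group G] (hp : Odd p) {x : G} (h : x⁻¹ = x) (hxp : x ^ p = 1) :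
    x = 1 := by
  obtain ⟨m, rfl⟩ := hp
  have h2 : x ^ 2 = 1 := by rw [sq]; nth_rewrite 1 [← h]; exact inv_mul_cancel x
  rwa [pow_succ, pow_mul, h2, one_pow, one_mul] at hxp

/-- A central element is fixed by conjugation. -/
theorem conj_center {z : S} (hz : z ∈ Subgroup.center S) (a : S) : a * z * a⁻¹ = z := by
  rw [Subgroup.mem_center_iff.1 hz a, mul_inv_cancel_right]

theorem comm_mul_left_center {a b c : S} (h : ⁅b, c⁆ ∈ Subgroup.center S) : ⁅a * b, c⁆ = ⁅b, c⁆ * ⁅a, c⁆ := by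
  rw [comm_mul_left, conj_center h]

theorem comm_inv_left_center {a c : S} (h : ⁅a, c⁆ ∈ Subgroup.center S) : ⁅a⁻¹, c⁆ = ⁅a, c⁆⁻¹ := by
  rw [show ⁅a⁻¹, c⁆ = a⁻¹ * ⁅a, c⁆⁻¹ * a⁻¹⁻¹ by simp only [commutatorElement_def]; group,
    conj_center (inv_mem h)]

namespace Leg

variable (L : Leg S p)

/-- The subgroup `[Y, S]`. -/
abbrev line : Subgroup S := ⁅L.yb, (⊤ : Subgroup S)⁆

theorem comm_mem_line {y : S} (hy : y ∈ L.yb) (s : S) : ⁅y, s⁆ ∈ L.line :=
  Subgroup.commutator_mem_commutator hy (Subgroup.mem_top s)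

theorem line_le_center : L.line ≤ Subgroup.center S := L.comm_le_center

theorem line_le_yb : L.line ≤ L.yb := L.line_le_center.trans L.center_le_yb

theorem exists_negator :
    ∃ z : L.G, ∃ σ : MulAut S, (∀ s, L.e (σ s) = z * L.e s * z⁻¹) ∧ (∀ c ∈ L.cb, σ c = c) ∧
      (∀ l ∈ L.line, σ l = l⁻¹) ∧ ∀ s, σ s * s⁻¹ ∈ L.qb := by
  obtain ⟨z₀, hz₀⟩ := L.coord.surj ⟨!![(-1 : L.F), 0; 0, -1], by simp [Matrix.det_fin_two]⟩
  obtain ⟨z, hz, hzR⟩ := L.hnorm z₀ ((L.coord.mem_M _).2 (by simp [hz₀]))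
  obtain ⟨σ, hσ⟩ := L.exists_aut hz
  rw [hz₀] at hzR
  have hfix : ∀ c ∈ L.cb, σ c = c := fun c hc => L.inj (by
    rw [hσ, Subgroup.mem_center_iff.1 (L.cb_central hc) z, mul_inv_cancel_right])
  have hq : ∀ s, σ s * s⁻¹ ∈ L.qb := by
    intro s
    refine L.coord.ker_S _ (L.e_mem _) ?_
    have hcm : L.RY z * L.RY (L.e s) = L.RY (L.e s) * L.RY z := by
      refine Subtype.ext ?_
      show (L.RY z).1 * (L.RY (L.e s)).1 = (L.RY (L.e s)).1 * (L.RY z).1
      rw [hzR]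
      ext i j
      fin_cases i <;> fin_cases j <;> simp [Matrix.mul_apply, Fin.sum_univ_two]
    rw [map_mul, map_inv, hσ, map_mul, map_mul, map_mul, map_inv, map_inv, hcm, mul_inv_cancel_right,
      mul_inv_cancel]
  have hy : ∀ y ∈ L.yb, σ y * y ∈ L.cb := by
    intro y hy
    have hσy : L.e (σ y) ∈ L.Y := hσ y ▸ L.pup.Yn.conj_mem _ hy z
    have h1 : L.cY (L.e (σ y)) = L.cY ((L.e y)⁻¹) := by
      rw [L.sect.map_inv hy, hσ, L.sect.conj z _ hy, hzR]
      funext i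
      fin_cases i <;> simp [Matrix.mulVec, dotProduct, Fin.sum_univ_two]
    have h2 := (L.sect.eq_iff hσy (inv_mem hy)).1 h1
    rw [inv_inv, ← map_mul] at h2
    exact h2
  refine ⟨z, σ, hσ, hfix, ?_, hq⟩
  let D : Subgroup S :=
  { carrier := {l | l ∈ Subgroup.center S ∧ σ l = l⁻¹}
    one_mem' := ⟨one_mem _, by rw [map_one, inv_one]⟩
    mul_mem' := fun {a b} ha hb => ⟨mul_mem ha.1 hb.1, by
      rw [map_mul, ha.2, hb.2, mul_inv_rev]
      exact (Subgroup.mem_center_iff.1 (inv_mem hb.1) a⁻¹)⟩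
    inv_mem' := fun {a} ha => ⟨inv_mem ha.1, by rw [map_inv, ha.2]⟩ }
  have hle : L.line ≤ D := Subgroup.commutator_le.2 fun y hyY s _ => by
    refine ⟨L.comm_yb_center hyY s, ?_⟩
    have hc : σ y * y ∈ Subgroup.center S := L.cb_le_center (hy y hyY)
    have hk : ⁅y⁻¹, s⁆ ∈ Subgroup.center S := L.comm_yb_center (inv_mem hyY) s
    rw [map_commutatorElement, show σ y = (σ y * y) * y⁻¹ by group, show σ s = (σ s * s⁻¹) * s by group,
      comm_mul_left, comm_mul_right y⁻¹,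
      commutatorElement_eq_one_iff_commute.2 (L.commute_qb_yb (hq s) (inv_mem hyY)), one_mul,
      conj_center hk, conj_center hk, comm_inv_left_center (L.comm_yb_center hyY s),
      commutatorElement_eq_one_iff_commute.2
        (show Commute (σ y * y) (σ s * s⁻¹ * s) from (Subgroup.mem_center_iff.1 hc _).symm), mul_one]
  exact fun l hl => (hle hl).2

theorem line_inf_cb (hp : Odd p) {x : S} (hx : x ∈ L.line) (hxc : x ∈ L.cb) : x = 1 := by
  obtain ⟨z, σ, -, hfix, hinv, -⟩ := L.exists_negator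
  exact eq_one_of_inv_self hp ((hinv x hx).symm.trans (hfix x hxc)) (L.yb_pow hxc.1)

/-- Every element of `[Y, S]` is a commutator with a given noncentral element of `Y`. -/
theorem exists_comm (hp : Odd p) {m l : S} (hm : m ∈ L.yb) (hmz : m ∉ Subgroup.center S) (hl : l ∈ L.line) :
    ∃ s, ⁅m, s⁆ = l := by
  have hmY : L.e m ∈ L.Y := hm
  have hform : ∀ s : S, ∀ a : L.F, L.RY (L.e s) = NatSL2.u a →
      L.cY (L.e ⁅m, s⁆) = ![-(a * L.cY (L.e m) 1), 0] := by
    intro s a hs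
    have hconj : L.e s * (L.e m)⁻¹ * (L.e s)⁻¹ ∈ L.Y := L.pup.Yn.conj_mem _ (inv_mem hmY) _
    rw [map_commutatorElement, show ⁅L.e m, L.e s⁆ = L.e m * (L.e s * (L.e m)⁻¹ * (L.e s)⁻¹) by
      rw [commutatorElement_def]; group, L.sect.mul _ hmY _ hconj, L.sect.conj _ _ (inv_mem hmY),
      L.sect.map_inv hmY, hs]
    funext i
    fin_cases i
    · show L.cY (L.e m) 0 + (NatSL2.u a : Matrix (Fin 2) (Fin 2) L.F).mulVec (-L.cY (L.e m)) 0 = _
      rw [(u_mulVec _ _).1]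
      simp
    · show L.cY (L.e m) 1 + (NatSL2.u a : Matrix (Fin 2) (Fin 2) L.F).mulVec (-L.cY (L.e m)) 1 = _
      rw [(u_mulVec _ _).2]
      simp
  have h1 : L.cY (L.e m) 1 ≠ 0 := by
    intro h0
    obtain ⟨s, hs⟩ := L.exists_not_qb
    obtain ⟨a, ha⟩ := L.coord.upper _ (L.e_mem s)
    refine hmz (L.cent hs hm ?_)
    have h2 := hform s a ha
    rw [h0, mul_zero, neg_zero] at h2
    refine (L.sect.zero _ (L.pup.Z_le (L.e_mem_zS.2 (L.comm_yb_center hm s)))).1 ?_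
    rw [h2]
    funext i
    fin_cases i <;> rfl
  obtain ⟨_, ⟨s, rfl⟩, hs⟩ := L.coord.exists_upper (-(L.cY (L.e l) 0 / L.cY (L.e m) 1))
  refine ⟨s, mul_inv_eq_one.1 (L.line_inf_cb hp
    (mul_mem (L.comm_mem_line hm s) (inv_mem hl)) ?_)⟩
  show L.e (⁅m, s⁆ * l⁻¹) ∈ cenIn L.Y
  rw [map_mul, map_inv, ← L.sect.eq_iff (L.line_le_yb (L.comm_mem_line hm s)) (L.line_le_yb hl), hform s _ hs]
  funext i
  fin_cases i
  · show -(-(L.cY (L.e l) 0 / L.cY (L.e m) 1) * L.cY (L.e m) 1) = _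
    rw [neg_mul, neg_neg, div_mul_cancel₀ _ h1]
    rfl
  · exact (L.second_zero (L.e_mem_zS.2 (L.line_le_center hl))).symm

end Leg

end Cfsg.Agent.PushUp
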