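import Cfsg.Agent.Lib.Fusion.ThreeTransfer.Minimal

/-!
# The focal subgroup is the product of two derived subgroups meeting the Sylow subgroup
-/

set_option autoImplicit false

open scoped commutatorElement Pointwise
open Cfsg

universe u

namespace Cfsg.Agent.Fusion

variable {p : ℕ} [hp : Fact p.Prime] {G : Type u} [Group G] [Finite G]

/-- Transfer into the normalizer of the centre is seen by the centralizer and the normalizer of `S`. -/
theorem inf_normalizer_center_le {P : Subgroup G} (hP : SylIn p P ⊤) :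
    P ⊓ ⁅Subgroup.normalizer ((P ⊓ Subgroup.centralizer (P : Set G) : Subgroup G) : Set G),
        Subgroup.normalizer ((P ⊓ Subgroup.centralizer (P : Set G) : Subgroup G) : Set G)⁆ ≤
      (P ⊓ ⁅Subgroup.centralizer ((P ⊓ Subgroup.centralizer (P : Set G) : Subgroup G) : Set G),
          Subgroup.centralizer ((P ⊓ Subgroup.centralizer (P : Set G) : Subgroup G) : Set G)⁆) ⊔
        (P ⊓ ⁅Subgroup.normalizer (P : Set G), Subgroup.normalizer (P : Set G)⁆) := by
  set Z := P ⊓ Subgroup.centralizer (P : Set G) with hZ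
  set C := Subgroup.centralizer (Z : Set G) with hCdef
  set N := Subgroup.normalizer (Z : Set G) with hNdef
  have hPC : P ≤ C := Subgroup.le_centralizer_iff.1 inf_le_right
  have hCN : C ≤ N := Subgroup.centralizer_le_normalizer _
  have hNC : N ≤ Subgroup.normalizer (C : Set G) := fun x hx => mem_normalizer_iff_cj.2 (by
    rw [hCdef, cj_centralizer, cj_eq_self hx])
  rw [inf_commutator_eq_focalIn (hP.mono (hPC.trans hCN) le_top)]
  refine (Subgroup.closure_le _).2 ?_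
  rintro _ ⟨x, hx, h, hh, hxh, rfl⟩
  obtain ⟨n, hn, hnh⟩ := frattini_conj (hP.mono hPC le_top) hNC hh
  set m := n * h with hm
  have hx' : m * x * m⁻¹ ∈ P := (Subgroup.mem_normalizer_iff.1 hnh x).1 hx
  have e : h * x * h⁻¹ = ⁅n⁻¹, m * x * m⁻¹⁆ * (m * x * m⁻¹) := by
    rw [hm, commutatorElement_def]; group
  have h1 : ⁅n⁻¹, m * x * m⁻¹⁆ ∈ P ⊓ ⁅C, C⁆ := by
    refine Subgroup.mem_inf.2 ⟨?_, Subgroup.commutator_mem_commutator (inv_mem hn) (hPC hx')⟩
    rw [show ⁅n⁻¹, m * x * m⁻¹⁆ = h * x * h⁻¹ * (m * x * m⁻¹)⁻¹ by rw [e]; group]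
    exact mul_mem hxh (inv_mem hx')
  have h2 : m * x * m⁻¹ * x⁻¹ ∈ P ⊓ ⁅Subgroup.normalizer (P : Set G), Subgroup.normalizer (P : Set G)⁆ :=
    Subgroup.mem_inf.2 ⟨mul_mem hx' (inv_mem hx), Subgroup.commutator_mem_commutator hnh (Subgroup.le_normalizer hx)⟩
  have h3 : h * x * h⁻¹ * x⁻¹ ∈ (P ⊓ ⁅C, C⁆) ⊔
      (P ⊓ ⁅Subgroup.normalizer (P : Set G), Subgroup.normalizer (P : Set G)⁆) := by
    rw [e, mul_assoc]
    exact Subgroup.mul_mem_sup h1 h2
  have hPn : P ≤ Subgroup.normalizer (((P ⊓ ⁅C, C⁆) ⊔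
      (P ⊓ ⁅Subgroup.normalizer (P : Set G), Subgroup.normalizer (P : Set G)⁆) : Subgroup G) : Set G) :=
    fun s hs => mem_normalizer_iff_cj.2 (by
      rw [cj_sup, cj_inf, cj_inf, cj_eq_self_of_mem hs, cj_commutator, cj_commutator,
        cj_eq_self_of_mem (hPC hs), cj_eq_self_of_mem (Subgroup.le_normalizer hs)])
  have h4 := (Subgroup.mem_normalizer_iff.1 (hPn (inv_mem hx)) _).1 h3
  rwa [show x⁻¹ * (h * x * h⁻¹ * x⁻¹) * x⁻¹⁻¹ = x⁻¹ * (h * x * h⁻¹) by group] at h4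

end Cfsg.Agent.Fusion
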