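import Cfsg.Agent.Lib.Fusion.ThreeTransfer.Tools
import Cfsg.Agent.Lib.PushUp.Fam.OfSetting

/-!
# No group is minimal with respect to failing control of transfer by the two functors
-/

set_option autoImplicit false

open scoped commutatorElement
open Cfsg

universe u

namespace Cfsg.Agent.Fusion

open Cfsg.Agent.PushUp (maxAb cZJ zS yS)

variable {p : ℕ} [hp : Fact p.Prime] {G : Type u} [Group G] [Finite G]

/-- Chief factors of the core seen by the embedding. -/
def SeesChief (S : Type u) [Group S] (H : Type u) [Group H] (e : S →* H) : Prop :=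
  ∀ x : S, e x ∉ e.range.normalCore → ∃ U W : Subgroup H, IsChiefFactor U W ∧ U ≤ e.range ∧
    ¬ iterCommutator U (Subgroup.zpowers (e x)) 2 ≤ W

/-- A member all of whose outer elements are seen on a chief factor has no quadratic action. -/
theorem nq_of_seesChief {S : Type u} [Group S] (L : PushUp.Leg S p) (h : SeesChief S L.G L.e) : L.NQ := by
  intro x hx
  by_contra hxQ
  have hcore : L.e x ∉ L.e.range.normalCore := fun hc => hxQ
    (L.inf_le_Q (Subgroup.normalCore_normal _) ((Subgroup.normalCore_le _).trans L.pup.S_le) ⟨L.e_mem x, hc⟩)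
  obtain ⟨U, W, hUW, hUS, hne⟩ := h x hcore
  have hUn := hUW.2.1
  have hWn := hUW.2.2.1
  have hYn := L.pup.Yn
  refine hne (iter_two_le fun a ha => ?_)
  have hUQ : U ≤ L.Q := fun w hw => L.inf_le_Q hUn (hUS.trans L.pup.S_le) ⟨hUS hw, hw⟩
  have hquad : ∀ d : S, d ∈ L.qb → ⁅⁅L.e d, L.e x⁆, L.e x⁆ ∈ L.Y := fun d hd => by
    rw [← map_commutatorElement, ← map_commutatorElement]
    exact hx d hd
  have hUclosed : ∀ b : L.G, b ∈ U → ⁅⁅b, L.e x⁆, L.e x⁆ ∈ U := fun b hb => by
    have h1 : ∀ c : L.G, c ∈ U → ⁅c, L.e x⁆ ∈ U := fun c hc => by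
      rw [commutatorElement_def, show c * L.e x * c⁻¹ * (L.e x)⁻¹ = c * (L.e x * c⁻¹ * (L.e x)⁻¹) by group]
      exact mul_mem hc (hUn.conj_mem _ (inv_mem hc) _)
    exact h1 _ (h1 b hb)
  obtain ⟨d, rfl⟩ := L.Q_le (hUQ ha)
  have hdY := hquad d (hUQ ha)
  rcases hUW.2.2.2 (U ⊓ (W ⊔ L.Y)) inferInstance (le_inf hUW.1.le le_sup_left) inf_le_left with h1 | h1
  · exact h1.le ⟨hUclosed _ ha, Subgroup.mem_sup_right hdY⟩
  · obtain ⟨w, hw, y, hy, hwy⟩ := Subgroup.mem_sup_of_normal_left.1 ((h1.ge ha).2)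
    obtain ⟨y', rfl⟩ := L.Y_le hy
    have h3 : ⁅⁅L.e y', L.e x⁆, L.e x⁆ = 1 := by
      rw [← map_commutatorElement, ← map_commutatorElement, commutatorElement_eq_one_iff_commute.2
        (show Commute ⁅y', x⁆ x from (Subgroup.mem_center_iff.1 (L.comm_yb_center hy x) x).symm), map_one]
    rw [← QuotientGroup.eq_one_iff, ← QuotientGroup.mk'_apply, map_commutatorElement, map_commutatorElement,
      ← hwy, map_mul, show QuotientGroup.mk' W w = 1 from (QuotientGroup.eq_one_iff w).2 hw, one_mul,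
      ← map_commutatorElement, ← map_commutatorElement, h3, map_one]

/-- No group is minimal with respect to failing control of transfer by the family. -/
theorem threeFam_step (hodd : Odd p) {S : Subgroup G} (hS : SylIn p S ⊤)
    (hsub : ∀ H : Subgroup G, H ≠ ⊤ →
      FamilyControlsTransferIn p ((fun W => inducedFunctor (G := H) W) '' threeFam p) ⊤)
    (hquot : ∀ (N : Subgroup G) [N.Normal], N ≠ ⊥ →
      FamilyControlsTransferIn p ((fun W => inducedFunctor (G := G ⧸ N) W) '' threeFam p) ⊤) :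
    FamilyControlsTransferIn p ((fun W => inducedFunctor (G := G) W) '' threeFam p) ⊤ := by
  classical
  by_contra hG
  have hp2 : p ≠ 2 := fun h => by
    rw [h] at hodd
    exact absurd hodd (by decide)
  set 𝓕 : Set (∀ (Q : Type u) [Group Q], Subgroup Q) := threeFam p
  have h𝓕 : ∀ W ∈ 𝓕, IsCharPFunctor.{u} p W := isCharPFunctor_threeFam hodd
  have hV' : IsCharPFunctor.{u} p (wV p) := isCharPFunctor_wV hodd
  set Q := pCore p G with hQ
  set Tp := famTransPart ((fun W => inducedFunctor (G := G) W) '' 𝓕) S with hTp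
  set M := Subgroup.normalizer ((Tp ⊓ Q : Subgroup G) : Set G) with hM
  obtain ⟨hC, ⟨hMne, hHM⟩, -, hu⟩ :=
    transfer_minimal h𝓕 ⟨_, Set.mem_insert _ _⟩ hS hsub hquot hG hTp hM
  have hQS : Q ≤ S := pCore_le_sylIn hS
  have hval : ∀ W ∈ 𝓕, ∀ N, inducedFunctor (G := G) W S = N → Subgroup.normalizer (N : Set G) ≠ ⊤ := by
    intro W hW N e htop
    subst e
    refine hG ((familyTransfer_iff _).2 ⟨S, hS, (famTransAt_iff_le _ _).2 ?_⟩)
    have h2 := le_famTransPart (𝓥 := (fun W => inducedFunctor (G := G) W) '' 𝓕) S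
      (W := inducedFunctor (G := G) W) ⟨W, hW, rfl⟩
    rw [htop, top_inf_eq] at h2
    exact h2
  obtain ⟨P, hP⟩ := hS.exists_sylow
  have hZmem' : ∀ {z}, z ∈ centerThompsonAOf S ↔ z ∈ S ∧ ∀ A ∈ maxAb S, z ∈ A := by
    intro z; rw [← hP]; exact Cfsg.Agent.PushUp.Setting.Z_mem_iff
  have hCJ : ∀ A ∈ maxAb S, A ≤ cZJ S := by
    rw [← hP]; exact fun A hA => Cfsg.Agent.PushUp.Setting.maxAb_le_C hA
  set J' := cZJ S with hJ'
  set K := inducedFunctor (G := G) (wV p) J' with hKdef
  have hKval : inducedFunctor (G := G) (compJ (wV p)) S = K := inducedFunctor_compJ hV' hS.isPGroup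
  have hKtop : Subgroup.normalizer (K : Set G) ≠ ⊤ := hval _ (Set.mem_insert_of_mem _ rfl) _ hKval
  have hJtop : Subgroup.normalizer (J' : Set G) ≠ ⊤ := fun h => hKtop (top_le_iff.1 (h ▸
    conjFunctor_normalizer_le (isConjugacyFunctor_induced hV') hS.isPGroup.to_inf_left))
  have hNS : Subgroup.normalizer (S : Set G) ≤ Subgroup.normalizer (J' : Set G) := by
    rw [hJ', ← inducedFunctor_wJT]
    exact conjFunctor_normalizer_le (isConjugacyFunctor_induced isCharPFunctor_wJT) hS.isPGroup
  have hSJ : S ≤ Subgroup.normalizer (J' : Set G) := Subgroup.le_normalizer.trans hNS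
  have hJM : Subgroup.normalizer (J' : Set G) ≤ M := hHM _ hSJ hJtop
  have hSM : S ≤ M := hSJ.trans hJM
  have hSn : Subgroup.normalizer (S : Set G) ≠ ⊤ := fun h => hJtop (top_le_iff.1 (h ▸ hNS))
  have hNSK : Subgroup.normalizer (S : Set G) ≤ Subgroup.normalizer (K : Set G) := hKval ▸
    conjFunctor_normalizer_le (isConjugacyFunctor_induced (isCharPFunctor_compJ hV')) hS.isPGroup
  have hKM : Subgroup.normalizer (K : Set G) ≤ M := hHM _ (Subgroup.le_normalizer.trans hNSK) hKtop
  -- the centre of `S`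
  set Z := zS S with hZ
  have hZval : inducedFunctor (G := G) (fun Q _ => Subgroup.center Q) S = Z := inducedFunctor_center S
  have hZtop : Subgroup.normalizer (Z : Set G) ≠ ⊤ := hval _ (Set.mem_insert _ _) _ hZval
  have hZnc : ¬ Z ≤ Subgroup.center G := fun hle => hZtop (Subgroup.normalizer_eq_top_iff.2
    ⟨fun z hz g => by rwa [Subgroup.mem_center_iff.1 (hle hz) g, mul_inv_cancel_right]⟩)
  have hSCZ : S ≤ Subgroup.centralizer (Z : Set G) := Subgroup.le_centralizer_iff.1 inf_le_right
  have hCZM : Subgroup.centralizer (Z : Set G) ≤ M := hHM _ hSCZ fun h =>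
    hZtop (top_le_iff.1 (h ▸ Subgroup.centralizer_le_normalizer _))
  have hZJ : Z ≤ centerThompsonAOf S := fun z hz => hZmem'.2 ⟨hz.1, fun A hA => mem_of_maxIn hA hz.1
    (isMulCommutative_closure_insert hA.2.1 fun a ha =>
      (Subgroup.mem_centralizer_iff.1 hz.2 a (hA.1 ha)).symm)⟩
  -- the centre of `C(Z(J))` formed in a subgroup with all abelian subgroups of largest order
  obtain ⟨A₀, hA₀⟩ := (replFamily_comm (G := G)).maxIn_nonempty S
  have hcen : ∀ S₁ : Subgroup G, S₁ ≤ S → (∀ A ∈ maxAb S, A ≤ S₁) →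
      zS (cZJ S₁) = centerThompsonAOf S := by
    intro S₁ h1 hA
    obtain ⟨-, e⟩ := centerThompsonAOf_eq (G := G) h1 hA
    have hAc : ∀ A ∈ maxAb S, A ≤ cZJ S₁ := fun A hA' =>
      le_inf (hA A hA') (e ▸ (hCJ A hA').trans inf_le_right)
    refine le_antisymm ?_ fun z hz => ⟨hAc A₀ hA₀ ((hZmem'.1 hz).2 A₀ hA₀),
      Subgroup.mem_centralizer_iff.2 fun w hw => ?_⟩
    · intro z hz
      exact hZmem'.2 ⟨h1 hz.1.1, fun A hA' => mem_of_maxIn hA' (h1 hz.1.1)
        (isMulCommutative_closure_insert hA'.2.1 fun a ha =>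
          (Subgroup.mem_centralizer_iff.1 hz.2 a (hAc A hA' ha)).symm)⟩
    · have hwc : w ∈ Subgroup.centralizer (centerThompsonAOf S : Set G) := e ▸ hw.2
      exact (Subgroup.mem_centralizer_iff.1 hwc z hz).symm
  -- normal subgroups inside `M` meet `S` in `Q`
  have hnorm : ∀ N : Subgroup G, N.Normal → N ≤ M → S ⊓ N ≤ Q := by
    intro N hN hNM
    have hsyl : SylIn p (S ⊓ N) N := hS.inf_normal le_top (Subgroup.normalizer_eq_top (H := N)).ge
    have htop : Subgroup.normalizer ((S ⊓ N : Subgroup G) : Set G) = ⊤ := by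
      by_contra hne
      have hle : S ≤ Subgroup.normalizer ((S ⊓ N : Subgroup G) : Set G) := fun s hs =>
        mem_normalizer_iff_cj.2 (by rw [cj_inf, cj_eq_self_of_mem hs, cj_of_normal])
      refine hMne (top_le_iff.1 fun g _ => ?_)
      obtain ⟨n, hn, hng⟩ := frattini_conj hsyl (H := ⊤) (Subgroup.normalizer_eq_top (H := N)).ge (Subgroup.mem_top g)
      simpa using mul_mem (inv_mem (hNM hn)) (hHM _ hle hne hng)
    have := Subgroup.normalizer_eq_top_iff.1 htop
    exact le_pCore hS.isPGroup.to_inf_left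
  -- a normal subgroup containing all abelian subgroups of largest order is everything
  have hG1 : ∀ G₁ : Subgroup G, G₁.Normal → (∀ A ∈ maxAb S, A ≤ G₁) →
      (J' ≤ G₁ ∨ ¬ ∀ z ∈ centerThompsonAOf S, z ^ p = 1) → G₁ = ⊤ := by
    intro G₁ hG₁ hAG hcase
    by_contra hne
    set S₁ := S ⊓ G₁
    have hS₁p : IsPGroup p S₁ := hS.isPGroup.to_inf_left
    have hAS₁ : ∀ A ∈ maxAb S, A ≤ S₁ := fun A hA => le_inf hA.1 (hAG A hA)
    have hsyl : SylIn p S₁ G₁ := hS.inf_normal le_top (Subgroup.normalizer_eq_top (H := G₁)).ge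
    have eK : inducedFunctor (G := G) (compJ (wV p)) S₁ = K := by
      rw [inducedFunctor_compJ hV' hS₁p]
      rcases hcase with hJG | hexp
      · have hJS₁ : J' ≤ S₁ := le_inf inf_le_left hJG
        obtain ⟨-, eZJ⟩ := centerThompsonAOf_eq (G := G) (inf_le_left : S₁ ≤ S) hAS₁
        have eJ : cZJ S₁ = J' := by
          show S₁ ⊓ Subgroup.centralizer (centerThompsonAOf S₁ : Set G) = J'
          rw [eZJ]
          exact le_antisymm (inf_le_inf_right _ inf_le_left) (le_inf hJS₁ inf_le_right)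
        rw [eJ]
      · have e1 := hcen S₁ inf_le_left hAS₁
        have e2 : zS J' = centerThompsonAOf S := hcen S le_rfl fun A hA => hA.1
        rw [hKdef, inducedFunctor_wV_top _ (by rwa [e1]), inducedFunctor_wV_top _ (by rwa [e2]), e1, e2]
    have hNS₁ : Subgroup.normalizer (S₁ : Set G) ≤ M := (eK ▸
      conjFunctor_normalizer_le (isConjugacyFunctor_induced (isCharPFunctor_compJ hV')) hS₁p :
        Subgroup.normalizer (S₁ : Set G) ≤ Subgroup.normalizer (K : Set G)).trans hKM
    have hWM : ∀ W ∈ 𝓕, G₁ ⊓ Subgroup.normalizer (inducedFunctor (G := G) W S₁ : Set G) ≤ M := by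
      rintro W (rfl | rfl)
      · set Z₁ := inducedFunctor (G := G) (fun Q _ => Subgroup.center Q) S₁
        have hZ₁ : Z₁ = zS S₁ := inducedFunctor_center S₁
        have hZZ₁ : Z ≤ Z₁ := hZ₁ ▸ fun z hz =>
          ⟨hAS₁ A₀ hA₀ ((hZmem'.1 (hZJ hz)).2 A₀ hA₀), Subgroup.centralizer_le inf_le_left hz.2⟩
        set C₁ := G₁ ⊓ Subgroup.centralizer (Z₁ : Set G)
        have hSC₁ : S₁ ≤ C₁ := le_inf inf_le_right (by
          rw [hZ₁]; exact Subgroup.le_centralizer_iff.1 inf_le_right)
        intro g hg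
        have hN : G₁ ⊓ Subgroup.normalizer (Z₁ : Set G) ≤ Subgroup.normalizer (C₁ : Set G) := fun x hx =>
          mem_normalizer_iff_cj.2 (by
            rw [cj_inf, cj_eq_self_of_mem hx.1, cj_centralizer, cj_eq_self hx.2])
        obtain ⟨n, hn, hng⟩ := frattini_conj (hsyl.mono hSC₁ inf_le_left) hN hg
        simpa using mul_mem (inv_mem ((Subgroup.centralizer_le hZZ₁).trans hCZM hn.2)) (hNS₁ hng)
      · rw [eK]
        exact inf_le_right.trans hKM
    have hG₁T : S₁ ⊓ ⁅G₁, G₁⁆ ≤ Tp := by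
      obtain ⟨U, hU, hf⟩ := (familyTransfer_iff _).1 (familyTransfer_subgroup h𝓕 G₁ (hsub G₁ hne))
      rw [hf.sylow (isConjugacyFunctor_image h𝓕) hU hsyl]
      refine iSup₂_le ?_
      rintro _ ⟨W, hW, rfl⟩
      exact le_trans (inf_le_inf inf_le_left (Subgroup.commutator_mono (hWM W hW) (hWM W hW)))
        (hTp ▸ proper_le_famTransPart h𝓕 hS hsub hSM hMne)
    have hder : ⁅G₁, G₁⁆ ≤ M := by
      have := hG₁
      rw [hM, Subgroup.le_normalizer_iff_commutator_le_left]
      have hle : ⁅Tp ⊓ Q, ⁅G₁, G₁⁆⁆ ≤ ⁅G₁, G₁⁆ := Subgroup.commutator_le_right _ _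
      have hle' : ⁅Tp ⊓ Q, ⁅G₁, G₁⁆⁆ ≤ Q :=
        (Subgroup.commutator_mono inf_le_right le_rfl).trans (Subgroup.commutator_le_left _ _)
      exact le_inf (fun x hx => hG₁T ⟨⟨hQS (hle' hx), Subgroup.commutator_le_left G₁ G₁ (hle hx)⟩, hle hx⟩) hle'
    set L := ⁅G₁, G₁⁆ ⊔ S₁
    have := hG₁
    have hLG : L ≤ G₁ := sup_le (Subgroup.commutator_le_left G₁ G₁) inf_le_right
    have hLn : Subgroup.normalizer (L : Set G) = ⊤ := by
      by_contra hne'
      have hG₁L : G₁ ≤ Subgroup.normalizer (L : Set G) := by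
        rw [Subgroup.le_normalizer_iff_commutator_le_left]
        exact (Subgroup.commutator_mono hLG le_rfl).trans le_sup_left
      have hSL : S ≤ Subgroup.normalizer (L : Set G) := fun s hs => mem_normalizer_iff_cj.2 (by
        rw [cj_sup, cj_commutator, cj_inf, cj_eq_self_of_mem hs, cj_of_normal])
      have hG₁M : G₁ ≤ M := hG₁L.trans (hHM _ hSL hne')
      refine hMne (top_le_iff.1 fun g _ => ?_)
      obtain ⟨n, hn, hng⟩ := frattini_conj hsyl (H := ⊤) (Subgroup.normalizer_eq_top (H := G₁)).ge (Subgroup.mem_top g)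
      simpa using mul_mem (inv_mem (hG₁M hn)) (hNS₁ hng)
    refine hMne (top_le_iff.1 fun g _ => ?_)
    have hLM : L ≤ M := sup_le hder (inf_le_left.trans hSM)
    obtain ⟨n, hn, hng⟩ := frattini_conj (hsyl.mono le_sup_right hLG) (H := ⊤) hLn.ge (Subgroup.mem_top g)
    simpa using mul_mem (inv_mem (hLM hn)) (hNS₁ hng)
  -- the module
  set V := Subgroup.normalClosure {z | z ∈ Z ∧ z ^ p ∈ Subgroup.center G} with hVdef
  have hZ₁V : ∀ {z}, z ∈ Z → z ^ p ∈ Subgroup.center G → z ∈ V := fun h1 h2 =>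
    Subgroup.subset_normalClosure ⟨h1, h2⟩
  have : (Subgroup.centralizer (Q : Set G)).Normal := Subgroup.normal_centralizer (H := Q)
  have hVcQ : V ≤ Subgroup.centralizer (Q : Set G) :=
    Subgroup.normalClosure_le_normal fun z hz => Subgroup.centralizer_le hQS hz.1.2
  have hVQ : V ≤ Q := hVcQ.trans hC
  have hVc : IsMulCommutative V := ⟨⟨fun a b => Subtype.ext
    (Subgroup.mem_centralizer_iff.1 (hVcQ b.2) a (hVQ a.2))⟩⟩
  have hVcomm : ∀ a ∈ V, ∀ b ∈ V, Commute a b := fun a ha b hb => congrArg Subtype.val (hVc.1.1 ⟨a, ha⟩ ⟨b, hb⟩)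
  have hVpow : ∀ N' : Subgroup G, N'.Normal → (∀ z ∈ Z, z ^ p ∈ Subgroup.center G → z ^ p ∈ N') →
      ∀ v ∈ V, v ^ p ∈ N' := by
    intro N' hN' hgen v hv
    refine Subgroup.closure_induction (p := fun v _ => v ^ p ∈ N') ?_ (by rw [one_pow]; exact one_mem _)
      (fun a b ha hb h1 h2 => by rw [(hVcomm a ha b hb).mul_pow]; exact mul_mem h1 h2)
      (fun a _ h1 => by rw [inv_pow]; exact inv_mem h1) hv
    intro z hz
    rw [Group.mem_conjugatesOfSet_iff] at hz
    obtain ⟨z', ⟨hz1, hz2⟩, hc⟩ := hz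
    obtain ⟨c, rfl⟩ := isConj_iff.1 hc
    rw [conj_pow]
    exact hN'.conj_mem _ (hgen z' hz1 hz2) c
  set N₀ := Subgroup.closure ((fun v : G => v ^ p) '' (V : Set G)) with hN₀def
  have hN₀c : N₀ ≤ Subgroup.center G := (Subgroup.closure_le _).2 (by
    rintro _ ⟨v, hv, rfl⟩
    exact hVpow _ inferInstance (fun z _ h => h) v hv)
  have hN₀V : N₀ ≤ V := (Subgroup.closure_le _).2 (by
    rintro _ ⟨v, hv, rfl⟩
    exact pow_mem hv p)
  have : N₀.Normal := ⟨fun x hx g => by rwa [Subgroup.mem_center_iff.1 (hN₀c hx) g, mul_inv_cancel_right]⟩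
  set π₀ := QuotientGroup.mk' N₀ with hπ₀
  have hπ₀s : Function.Surjective π₀ := QuotientGroup.mk'_surjective N₀
  set Vb := V.map π₀ with hVbdef
  have : Vb.Normal := Subgroup.normalClosure_normal.map π₀ hπ₀s
  have hVbc : IsMulCommutative Vb := ⟨⟨fun a b => Subtype.ext (by
    obtain ⟨a', ha', ea⟩ := a.2
    obtain ⟨b', hb', eb⟩ := b.2
    show (a : G ⧸ N₀) * b = b * a
    rw [← ea, ← eb]
    exact ((hVcomm a' ha' b' hb').map π₀).eq)⟩⟩
  set C := (Subgroup.centralizer (Vb : Set (G ⧸ N₀))).comap π₀ with hCdef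
  have hCn : C.Normal := Subgroup.Normal.comap (Subgroup.normal_centralizer (H := Vb)) π₀
  have hCmem : ∀ {g : G}, g ∈ C ↔ ∀ v ∈ V, ⁅g, v⁆ ∈ N₀ := fun {g} => by
    rw [hCdef, Subgroup.mem_comap, Subgroup.mem_centralizer_iff]
    constructor
    · intro h v hv
      rw [← QuotientGroup.eq_one_iff, ← QuotientGroup.mk'_apply, map_commutatorElement,
        commutatorElement_eq_one_iff_mul_comm]
      exact (h _ ⟨v, hv, rfl⟩).symm
    · rintro h _ ⟨v, hv, rfl⟩
      have h1 := h v hv
      rw [← QuotientGroup.eq_one_iff, ← QuotientGroup.mk'_apply, map_commutatorElement,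
        commutatorElement_eq_one_iff_mul_comm] at h1
      exact h1.symm
  let H₀ : Subgroup G :=
  { carrier := {g | ∀ z ∈ Z, z ^ p ∈ Subgroup.center G → ⁅g, z⁆ ∈ N₀}
    one_mem' := fun z _ _ => by rw [commutatorElement_one_left]; exact one_mem _
    mul_mem' := fun {a b} ha hb z h1 h2 => by
      rw [show ⁅a * b, z⁆ = a * ⁅b, z⁆ * a⁻¹ * ⁅a, z⁆ by simp only [commutatorElement_def]; group]
      exact mul_mem (‹N₀.Normal›.conj_mem _ (hb z h1 h2) a) (ha z h1 h2)
    inv_mem' := fun {a} ha z h1 h2 => by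
      rw [show ⁅a⁻¹, z⁆ = a⁻¹ * ⁅a, z⁆⁻¹ * a⁻¹⁻¹ by simp only [commutatorElement_def]; group]
      exact ‹N₀.Normal›.conj_mem _ (inv_mem (ha z h1 h2)) _ }
  have hSH₀ : S ≤ H₀ := fun s hs z hz _ => by
    rw [commutatorElement_eq_one_iff_commute.2 (Subgroup.mem_centralizer_iff.1 hz.2 s hs)]
    exact one_mem _
  have hH₀ne : H₀ ≠ ⊤ := by
    intro htop
    obtain ⟨z, hz, hzc⟩ := SetLike.not_le_iff_exists.1 hZnc
    have hex : ∃ k, z ^ p ^ k ∈ Subgroup.center G := by
      obtain ⟨k, hk⟩ := hS.isPGroup ⟨z, hz.1⟩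
      exact ⟨k, by rw [show z ^ p ^ k = 1 from congrArg Subtype.val hk]; exact one_mem _⟩
    set k := Nat.find hex with hkdef
    have hk1 : 1 ≤ k := by
      by_contra h0
      have := Nat.find_spec hex
      rw [← hkdef, show k = 0 by omega, pow_zero, pow_one] at this
      exact hzc this
    have hz' : z ^ p ^ (k - 1) ∈ Z := pow_mem hz _
    have hzp : (z ^ p ^ (k - 1)) ^ p ∈ Subgroup.center G := by
      rw [← pow_mul, ← pow_succ, Nat.sub_add_cancel hk1]
      exact Nat.find_spec hex
    exact Nat.find_min hex (show k - 1 < k by omega) (central_of_comm_mem hS hN₀c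
      (hS.isPGroup.to_le (hN₀V.trans (hVQ.trans hQS)))
      (fun s hs => commutatorElement_eq_one_iff_commute.2 (Subgroup.mem_centralizer_iff.1 hz'.2 s hs))
      fun g => (htop.ge (Subgroup.mem_top g)) _ hz' hzp)
  have hH₀M : H₀ ≤ M := hHM _ hSH₀ hH₀ne
  have hCM : C ≤ M := le_trans (show C ≤ H₀ from fun g hg z h1 h2 => hCmem.1 hg z (hZ₁V h1 h2)) hH₀M
  have hQC : Q ≤ C := fun g hg => hCmem.2 fun v hv => by
    rw [commutatorElement_eq_one_iff_commute.2 (Subgroup.mem_centralizer_iff.1 (hVcQ hv) g hg)]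
    exact one_mem _
  have hSC : S ⊓ C = Q := le_antisymm (hnorm C hCn hCM) (le_inf hQS hQC)
  have hCcent : C ≤ Subgroup.centralizer (V : Set G) := by
    refine mem_of_comm_central (S := S) (hS.inf_normal le_top (Subgroup.normalizer_eq_top (H := C)).ge)
      (Subgroup.normal_centralizer (H := V)) (fun g hg => hCmem.2 fun v hv => ?_) ?_ fun g hg => ?_
    · rw [commutatorElement_eq_one_iff_commute.2 (Subgroup.mem_centralizer_iff.1 hg v hv).symm]
      exact one_mem _
    · rw [hSC]; exact Subgroup.le_centralizer_iff.1 hVcQ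
    · refine Subgroup.mem_centralizer_iff.2 fun v hv => ?_
      set c := ⁅g, v⁆ with hcdef
      have hc : c ∈ Subgroup.center G := hN₀c (hCmem.1 hg v hv)
      have hk : ∀ k : ℕ, g ^ k * v * (g ^ k)⁻¹ = c ^ k * v := by
        intro k
        induction k with
        | zero => simp
        | succ k ih =>
          rw [pow_succ' g, show g * g ^ k * v * (g * g ^ k)⁻¹ = g * (g ^ k * v * (g ^ k)⁻¹) * g⁻¹ by group, ih,
            show g * (c ^ k * v) * g⁻¹ = (g * c ^ k * g⁻¹) * ⁅g, v⁆ * v by
              simp only [commutatorElement_def]; group,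
            Subgroup.mem_center_iff.1 (pow_mem hc k) g, mul_inv_cancel_right, ← hcdef, ← pow_succ]
      have hcv : c ^ p = 1 := by
        have h1 : (g * v * g⁻¹) ^ p = v ^ p := by
          rw [conj_pow, Subgroup.mem_center_iff.1 (hVpow _ inferInstance (fun z _ h => h) v hv) g,
            mul_inv_cancel_right]
        rw [show g * v * g⁻¹ = c * v by rw [hcdef, commutatorElement_def]; group,
          (show Commute c v from (Subgroup.mem_center_iff.1 hc v).symm).mul_pow] at h1
        exact mul_eq_right.1 h1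
      have h2 := hk p
      rw [hcv, one_mul, mul_inv_eq_iff_eq_mul] at h2
      exact h2.symm
  letI : CommGroup Vb := { (inferInstance : Group Vb) with mul_comm := hVbc.1.1 }
  obtain ⟨φ, hφ, hfaith⟩ := exists_map_action π₀ hVbc C hCdef
  set π := QuotientGroup.mk' C with hπ
  have hπs : Function.Surjective π := QuotientGroup.mk'_surjective C
  have hkerM : ∀ {g : G}, π g ∈ M.map π ↔ g ∈ M := by
    intro g
    refine ⟨fun h => ?_, fun h => ⟨g, h, rfl⟩⟩
    have : g ∈ (M.map π).comap π := h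
    rwa [hπ, QuotientGroup.comap_map_mk', sup_eq_right.2 hCM] at this
  have hSπ : SylIn p (S.map π) ⊤ := sylIn_map_mk hS
  have hSπM : S.map π ≤ M.map π := Subgroup.map_mono hSM
  have hSQ : ¬ S ≤ Q := fun h => hSn (by
    rw [le_antisymm h hQS]
    exact Subgroup.normalizer_eq_top (H := Q))
  have Kc : OffProd.Ctx φ p (M.map π) :=
    { exp := fun v => by
        obtain ⟨w, hw, e⟩ := (Additive.toMul v).2
        show p • Additive.ofMul (Additive.toMul v) = 0
        rw [← ofMul_pow]
        refine congrArg Additive.ofMul (Subtype.ext ?_)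
        rw [SubmonoidClass.coe_pow, ← e, ← map_pow]
        exact (QuotientGroup.eq_one_iff _).2 (Subgroup.subset_closure ⟨w, hw, rfl⟩)
      faithful := hfaith
      two := hp2
      M_ne := fun h => hMne (top_le_iff.1 fun g _ => hkerM.1 (h ▸ Subgroup.mem_top _))
      exT := ⟨S.map π, hSπ, hSπM, fun h => hSQ (by
        rw [← hSC]
        exact le_inf le_rfl (((Subgroup.map_eq_bot_iff _).1 h).trans (QuotientGroup.ker_mk' C).le))⟩
      core := by
        set L := (pCore p (G ⧸ C)).comap π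
        have : L.Normal := Subgroup.Normal.comap inferInstance π
        have hLS : L ≤ S ⊔ C := by
          intro x hx
          obtain ⟨s, hs, e⟩ := pCore_le_sylIn hSπ hx
          have : s⁻¹ * x ∈ C := QuotientGroup.eq.1 e
          simpa using Subgroup.mul_mem_sup hs this
        have h2 : L ≤ C := fun x hx => by
          obtain ⟨s, hs, c, hc, rfl⟩ := Subgroup.mem_sup_of_normal_right.1 (hLS hx)
          have hsL : s ∈ L := by
            have hcL : c ∈ L := by
              show π c ∈ pCore p (G ⧸ C)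
              rw [show π c = 1 from (QuotientGroup.eq_one_iff c).2 hc]
              exact one_mem _
            simpa using mul_mem hx (inv_mem hcL)
          exact mul_mem (hQC (hnorm L inferInstance (hLS.trans (sup_le hSM hCM)) ⟨hs, hsL⟩)) hc
        rw [eq_bot_iff]
        intro y hy
        obtain ⟨x, rfl⟩ := hπs y
        exact (QuotientGroup.eq_one_iff x).2 (h2 hy)
      uniq := fun T hT hTM H hTH hH => by
        obtain ⟨x, hx, hxT⟩ := (hSπ.mono hSπM le_top).conj_eq (hT.mono hTM le_top)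
        obtain ⟨m, hm, rfl⟩ := hx
        have hH' : cj H (π m)⁻¹ ≤ M.map π := by
          have hle : S.map π ≤ cj H (π m)⁻¹ := by
            have := cj_mono (hxT ▸ hTH : cj (S.map π) (π m) ≤ H) (π m)⁻¹
            rwa [cj_cj_inv] at this
          rw [← Subgroup.map_comap_eq_self_of_surjective hπs (cj H (π m)⁻¹)]
          refine Subgroup.map_mono (hHM _ (Subgroup.map_le_iff_le_comap.1 hle) fun h => hH ?_)
          have h2 : cj H (π m)⁻¹ = ⊤ := Subgroup.comap_injective hπs (h.trans (Subgroup.comap_top π).symm)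
          rw [← cj_inv_cj H (π m), h2]
          exact cj_of_normal _ _
        have := cj_mono hH' (π m)
        rwa [cj_inv_cj, cj_eq_self_of_mem (show π m ∈ M.map π from ⟨m, hm, rfl⟩)] at this
      moved := fun T hT hTM g hg => by
        obtain ⟨x, hx, hxT⟩ := (hSπ.mono hSπM le_top).conj_eq (hT.mono hTM le_top)
        obtain ⟨m, hm, rfl⟩ := hx
        obtain ⟨g, rfl⟩ := hπs g
        have hgM : m⁻¹ * g * m ∉ H₀ := fun h => hg (hkerM.2 (by
          simpa [mul_assoc] using mul_mem (mul_mem hm (hH₀M h)) (inv_mem hm)))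
        obtain ⟨z, hz, hzp, hzm⟩ : ∃ z, z ∈ Z ∧ z ^ p ∈ Subgroup.center G ∧ ⁅m⁻¹ * g * m, z⁆ ∉ N₀ := by
          by_contra hcon
          simp only [not_exists, not_and, not_not] at hcon
          exact hgM fun z h1 h2 => hcon z h1 h2
        refine ⟨Additive.ofMul (⟨π₀ (m * z * m⁻¹), _, Subgroup.Normal.conj_mem inferInstance z
          (hZ₁V hz hzp) m, rfl⟩ : Vb), ?_, ?_⟩
        · rw [← hxT]
          rintro _ ⟨_, ⟨s, hs, rfl⟩, rfl⟩
          refine Additive.toMul.injective (Subtype.ext ?_)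
          show ((Additive.toMul (φ ((m * s * m⁻¹ : G) : G ⧸ C) _) : Vb) : G ⧸ N₀) = _
          rw [hφ]
          show π₀ (m * s * m⁻¹) * π₀ (m * z * m⁻¹) * (π₀ (m * s * m⁻¹))⁻¹ = π₀ (m * z * m⁻¹)
          rw [← map_inv, ← map_mul, ← map_mul,
            show m * s * m⁻¹ * (m * z * m⁻¹) * (m * s * m⁻¹)⁻¹ = m * (s * z * s⁻¹) * m⁻¹ by group,
            Subgroup.mem_centralizer_iff.1 hz.2 s hs, mul_inv_cancel_right]
        · intro e
          refine hzm ?_
          have e1 := hφ g ⟨π₀ (m * z * m⁻¹), _, Subgroup.Normal.conj_mem inferInstance z (hZ₁V hz hzp) m, rfl⟩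
          rw [show φ (g : G ⧸ C) _ = _ from e] at e1
          have e2 : π₀ (m * z * m⁻¹) = π₀ g * π₀ (m * z * m⁻¹) * (π₀ g)⁻¹ := e1
          rw [← QuotientGroup.eq_one_iff, ← QuotientGroup.mk'_apply,
            show ⁅m⁻¹ * g * m, z⁆ = m⁻¹ * ⁅g, m * z * m⁻¹⁆ * m by simp only [commutatorElement_def]; group,
            map_mul, map_mul, map_commutatorElement, commutatorElement_def, ← hπ₀, ← e2, mul_inv_cancel,
            mul_one, ← map_mul, inv_mul_cancel, map_one] }
  -- abelian subgroups of largest order give offenders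
  have hoff : ∀ A ∈ maxAb S, Nat.card (Additive Vb) ≤ OffProd.off φ (A.map π) := by
    intro A hA
    have hcA : ∀ a ∈ A, ∀ b ∈ A, a * b = b * a := fun a ha b hb =>
      congrArg Subtype.val (hA.2.1.1.1 ⟨a, ha⟩ ⟨b, hb⟩)
    set U := V ⊓ Subgroup.centralizer (A : Set G)
    have hNU : N₀ ≤ U := le_inf hN₀V (hN₀c.trans (Subgroup.center_le_centralizer _))
    have hcardq : ∀ X : Subgroup G, N₀ ≤ X → Nat.card X = Nat.card (X.map π₀) * Nat.card N₀ := by
      intro X hX
      have h2 : π₀.ker.relIndex X = Nat.card (X.map π₀) := Subgroup.relIndex_ker X π₀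
      rw [← h2, hπ₀, QuotientGroup.ker_mk', mul_comm, ← Subgroup.relIndex_bot_left, ← Subgroup.relIndex_bot_left]
      exact (Subgroup.relIndex_mul_relIndex _ _ _ bot_le hX).symm
    have hUVb : U.map π₀ ≤ Vb := Subgroup.map_mono inf_le_left
    have hU : Nat.card (U.map π₀) ≤ Nat.card (BestOff.fixed φ (A.map π)) := by
      refine Nat.card_le_card_of_injective (fun v : U.map π₀ => (⟨Additive.ofMul (⟨v, hUVb v.2⟩ : Vb), ?_⟩ :
        BestOff.fixed φ (A.map π))) fun a b e => Subtype.ext ?_
      · rintro _ ⟨a, ha, rfl⟩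
        refine Additive.toMul.injective (Subtype.ext ?_)
        show ((Additive.toMul (φ ((a : G) : G ⧸ C) _) : Vb) : G ⧸ N₀) = _
        rw [hφ]
        obtain ⟨w, hw, e⟩ := v.2
        show π₀ a * (v : G ⧸ N₀) * (π₀ a)⁻¹ = v
        rw [← e, ← map_inv, ← map_mul, ← map_mul, Subgroup.mem_centralizer_iff.1 hw.2 a ha,
          mul_inv_cancel_right]
      · exact congrArg (fun x : BestOff.fixed φ (A.map π) =>
          ((Additive.toMul (x : Additive Vb) : Vb) : G ⧸ N₀)) e
    have hUA : U ≤ A := fun v hv => mem_of_maxIn hA (hQS (hVQ hv.1))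
      (isMulCommutative_closure_insert hA.2.1 fun a ha => (Subgroup.mem_centralizer_iff.1 hv.2 a ha).symm)
    have h1 : Nat.card (V ⊔ (A ⊓ C) : Subgroup G) ≤ Nat.card A := by
      refine hA.2.2 _ (sup_le (hVQ.trans hQS) (inf_le_left.trans hA.1)) ?_
      exact Cfsg.Agent.PushUp.comm_sup hVc (isMulCommutative_of_le hA.2.1 inf_le_left)
        (inf_le_right.trans hCcent)
    rw [Cfsg.Agent.PushUp.card_sup_normal] at h1
    have h2 : V.relIndex (A ⊓ C) * Nat.card (V ⊓ (A ⊓ C) : Subgroup G) = Nat.card (A ⊓ C : Subgroup G) := by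
      rw [← Subgroup.inf_relIndex_right, mul_comm, ← Subgroup.relIndex_bot_left, ← Subgroup.relIndex_bot_left]
      exact Subgroup.relIndex_mul_relIndex _ _ _ bot_le inf_le_right
    have h3 : Nat.card (V ⊓ (A ⊓ C) : Subgroup G) ≤ Nat.card U := by
      refine Subgroup.card_le_of_le fun v hv => ⟨hv.1, Subgroup.mem_centralizer_iff.2 fun a ha => ?_⟩
      exact hcA a ha v hv.2.1
    have h4 : Nat.card (A.map π) * Nat.card (A ⊓ C : Subgroup G) = Nat.card A := by
      have e1 : π.ker.relIndex A = Nat.card (A.map π) := Subgroup.relIndex_ker A π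
      rw [← e1, hπ, QuotientGroup.ker_mk', ← Subgroup.inf_relIndex_left A C, mul_comm,
        ← Subgroup.relIndex_bot_left, ← Subgroup.relIndex_bot_left]
      exact Subgroup.relIndex_mul_relIndex _ _ _ bot_le inf_le_left
    have h5 : Nat.card V ≤ Nat.card (A.map π) * Nat.card U := by
      refine Nat.le_of_mul_le_mul_right ?_ (Nat.card_pos (α := (A ⊓ C : Subgroup G)))
      calc Nat.card V * Nat.card (A ⊓ C : Subgroup G)
          = V.relIndex (A ⊓ C) * Nat.card V * Nat.card (V ⊓ (A ⊓ C) : Subgroup G) := by rw [← h2]; ring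
        _ ≤ Nat.card A * Nat.card U := Nat.mul_le_mul h1 h3
        _ = _ := by rw [← h4]; ring
    rw [hcardq V hN₀V, hcardq U hNU, ← mul_assoc] at h5
    exact (Nat.le_of_mul_le_mul_right h5 Nat.card_pos).trans (Nat.mul_le_mul_left _ hU)
  -- some abelian subgroup of largest order leaves `C`
  have hexA : ∃ A ∈ maxAb S, A.map π ≠ ⊥ := by
    by_contra hcon
    simp only [not_exists, not_and, not_not] at hcon
    have hAQ : ∀ A ∈ maxAb S, A ≤ Q := fun A hA => (le_inf hA.1
      (((Subgroup.map_eq_bot_iff _).1 (hcon A hA)).trans (QuotientGroup.ker_mk' C).le)).trans hSC.le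
    obtain ⟨-, eZ⟩ := centerThompsonAOf_eq (G := G) hQS hAQ
    have hZn : (centerThompsonAOf S).Normal := by
      rw [← eZ, ← zFam_comm_eq]
      refine Subgroup.normalizer_eq_top_iff.1 (top_le_iff.1 ?_)
      exact (Subgroup.normalizer_eq_top (H := Q)).ge.trans (replFamily_comm.normalizer_le_zFam Q)
    have := hZn
    have htop := hG1 _ (Subgroup.normal_centralizer (H := centerThompsonAOf S))
      (fun A hA => (hCJ A hA).trans inf_le_right) (Or.inl inf_le_right)
    refine hZnc fun z hz => Subgroup.mem_center_iff.2 fun g => ?_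
    exact (Subgroup.mem_centralizer_iff.1 (htop.ge (Subgroup.mem_top g) : g ∈ Subgroup.centralizer _) z
      (hZJ hz)).symm
  set E := sSup (OffProd.mems φ p (S.map π))
  have hAE : ∀ A ∈ maxAb S, A.map π ≤ E := fun A hA =>
    OffProd.off_le_sSup Kc hSπ hSπM (Subgroup.map_mono hA.1)
      (by
        rintro _ ⟨a, ha, rfl⟩ _ ⟨b, hb, rfl⟩
        exact (show Commute a b from congrArg Subtype.val (hA.2.1.1.1 ⟨a, ha⟩ ⟨b, hb⟩)).map π) (hoff A hA)
  have hJE : (∀ z ∈ centerThompsonAOf S, z ^ p = 1) → J'.map π ≤ E := by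
    intro hexp
    have hN0 : N₀ = ⊥ := le_bot_iff.1 ((Subgroup.closure_le _).2 (by
      rintro _ ⟨v, hv, rfl⟩
      exact hVpow ⊥ inferInstance (fun z hz _ => by rw [hexp z (hZJ hz)]; exact one_mem _) v hv))
    rintro _ ⟨x, hx, rfl⟩
    refine OffProd.fix_le_sSup Kc hSπ hSπM ⟨x, hx.1, rfl⟩ fun v hv => ?_
    obtain ⟨w, hw, ew⟩ := (Additive.toMul v).2
    have hwZ : w ∈ centerThompsonAOf S := by
      refine hZmem'.2 ⟨hQS (hVQ hw), fun A hA => mem_of_maxIn hA (hQS (hVQ hw))
        (isMulCommutative_closure_insert hA.2.1 fun a ha => ?_)⟩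
      have := hφ a (Additive.toMul v)
      rw [show φ (a : G ⧸ C) (Additive.ofMul (Additive.toMul v)) = v from hv _ (hAE A hA ⟨a, ha, rfl⟩), ← ew,
        ← map_inv, ← map_mul, ← map_mul] at this
      have h1 := QuotientGroup.eq.1 this
      rw [hN0, Subgroup.mem_bot, inv_mul_eq_one] at h1
      exact eq_mul_inv_iff_mul_eq.1 h1
    refine Additive.toMul.injective (Subtype.ext ?_)
    show ((Additive.toMul (φ ((x : G) : G ⧸ C) (Additive.ofMul (Additive.toMul v))) : Vb) : G ⧸ N₀) = _
    rw [hφ, ← ew, ← map_inv, ← map_mul, ← map_mul, ← Subgroup.mem_centralizer_iff.1 hx.2 _ hwZ,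
      mul_inv_cancel_right]
  obtain ⟨D, hD⟩ : ∃ D, D ∈ OffProd.mems φ p (S.map π) := by
    obtain ⟨A, hA, hne⟩ := hexA
    by_contra hcon
    simp only [not_exists] at hcon
    refine hne (le_bot_iff.1 ((hAE A hA).trans (sSup_le fun D hD => absurd hD (hcon D))))
  obtain ⟨F₀, _, _, n, hn, hF₀, ⟨iso⟩⟩ := OffProd.iso_of_closure Kc hSπ hSπM hD fun N hN hle => by
    have := hN
    have h1 := hG1 (N.comap π) (Subgroup.Normal.comap inferInstance π)
      (fun A hA => Subgroup.map_le_iff_le_comap.1 ((hAE A hA).trans hle))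
      (by
        by_cases hexp : ∀ z ∈ centerThompsonAOf S, z ^ p = 1
        · exact Or.inl (Subgroup.map_le_iff_le_comap.1 ((hJE hexp).trans hle))
        · exact Or.inr hexp)
    exact Subgroup.comap_injective hπs (h1.trans (Subgroup.comap_top π).symm)
  letI : Fintype (GaloisField p n) := Fintype.ofFinite _
  have hFn : Fintype.card (GaloisField p n) = p ^ n := by
    rw [← Nat.card_eq_fintype_card, GaloisField.card p n (by omega)]
  let e : F₀ ≃+* GaloisField p n := FiniteField.ringEquivOfCardEq (by rw [hF₀, hFn])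
  let eSL := Matrix.SpecialLinearGroup.map (n := Fin 2) (e : F₀ →+* GaloisField p n)
  have heSL : Function.Surjective eSL := fun y => ⟨Matrix.SpecialLinearGroup.map (n := Fin 2)
    (e.symm : GaloisField p n →+* F₀) y, by ext i j; exact e.apply_symm_apply _⟩
  set θ : G →* Matrix.ProjectiveSpecialLinearGroup (Fin 2) (GaloisField p n) :=
    (QuotientGroup.mk' _).comp (eSL.comp (iso.toMonoidHom.comp π)) with hθ
  have hθs : Function.Surjective θ :=
    (QuotientGroup.mk'_surjective _).comp (heSL.comp (iso.surjective.comp hπs))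
  have huniq : ∃! M' : Subgroup G, IsCoatom M' ∧ (P : Subgroup G) ≤ M' := by
    rw [hP]
    refine ⟨M, ⟨⟨hMne, fun H hH => ?_⟩, hSM⟩, fun M' ⟨hM', hSM'⟩ => ?_⟩
    · by_contra hne
      exact hH.not_ge (hHM H (hSM.trans hH.le) hne)
    · rcases eq_or_lt_of_le (hHM M' hSM' hM'.1) with h | h
      · exact h
      · exact absurd (hM'.2 M h) hMne
  have R : PushUp.Setting p n P (GaloisField p n) θ := ⟨hC, huniq, hn, hFn, hθs⟩
  have hO : PushUp.Offending R := by
    rcases R.cases with h | h | h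
    · rw [hP] at h; exact absurd h hZnc
    · rw [hP] at h
      exact absurd (Subgroup.normalizer_eq_top_iff.2 h) hJtop
    · exact h
  have hJcl : Subgroup.normalClosure (J' : Set G) = ⊤ := hG1 _ Subgroup.normalClosure_normal
    (fun A hA => (hCJ A hA).trans Subgroup.le_normalClosure) (Or.inl Subgroup.le_normalClosure)
  have hSJ' : J' = S := by
    have h1 := hO.inf_normalClosure_le
    rw [hP, hJcl, inf_top_eq] at h1
    exact le_antisymm inf_le_left h1
  have hKn : K.Normal := by
    by_cases hexp : ∀ z ∈ centerThompsonAOf S, z ^ p = 1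
    · -- exponent `p`: a member without quadratic action
      have hrange : S.subtype.range = S := Subgroup.range_subtype S
      have hctr : ∀ z ∈ Subgroup.center ↥S, z ^ p = 1 :=
        (exp_zS_iff S p).2 fun z hz => hexp z (hZJ hz)
      have hKeq : K = (PushUp.nqCore p ↥S).map S.subtype := by
        rw [hKdef, hSJ']
        show (wV p ↥S).map S.subtype = _
        rw [wV_of_exp hctr]
      rw [hKeq]
      refine PushUp.Setting.of_legs R S.subtype S.subtype_injective (by rw [hrange]; exact hP) ?_ ?_ hctr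
        (fun H _ ε => SeesChief ↥S H ε → ((PushUp.nqCore p ↥S).map ε).Normal)
        (fun L hL => PushUp.nqCore_normal (nq_of_seesChief L hL)) ?_
      · rintro hle
        exact hZnc (hZval.ge.trans hle)
      · refine le_bot_iff.1 (Subgroup.commutator_le.2 fun a ha b _ => ?_)
        rw [Subgroup.mem_bot, commutatorElement_eq_one_iff_mul_comm]
        refine Subtype.ext ?_
        have hb : (b : G) ∈ Subgroup.centralizer (centerThompsonAOf S : Set G) :=
          (hSJ'.ge b.2).2
        have haZ : (a : G) ∈ centerThompsonAOf S := by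
          have h2 := PushUp.centerThompsonAOf_range S.subtype S.subtype_injective
          rw [hrange] at h2
          rw [h2]
          exact ⟨a, ha, rfl⟩
        exact Subgroup.mem_centralizer_iff.1 hb _ haZ
      · intro x hx
        have hxQ : (S.subtype x : G) ∉ Q := fun hq => hx (by
          rw [hrange]
          exact (Subgroup.normal_le_normalCore.2 hQS) hq)
        obtain ⟨U, W, hUW, hUQ, hne⟩ := hu _ x.2 hxQ
        refine ⟨U, W, hUW, by rw [hrange]; exact hUQ.trans hQS, fun hle => hne ?_⟩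
        have := hUW.2.1
        refine (iter_antitone (le_top.trans (Subgroup.normalizer_eq_top (H := U)).ge) ?_).trans hle
        obtain ⟨m, hm⟩ := hodd
        have := hp.out.two_le
        omega
    · -- higher exponent: the `p`-th powers are central
      have hYp : ∀ y ∈ yS (P : Subgroup G), ∀ s ∈ S, Commute (y ^ p) s := by
        intro y hy s hs
        have hyS : y ∈ S := hQS (R.Y_le_Q hy)
        have hmem : y ^ p ∈ centerThompsonAOf S := by
          refine hZmem'.2 ⟨pow_mem hyS p, fun A hA => ?_⟩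
          by_cases hAQ : A ≤ Q
          · exact pow_mem (mem_of_maxIn hA hyS (isMulCommutative_closure_insert hA.2.1 fun a ha =>
              (Subgroup.mem_centralizer_iff.1 (R.Q_le_CY (hAQ ha)) y hy))) p
          · obtain ⟨e1, e2, -⟩ := hO.counts (hP ▸ hA) hAQ
            set Y := yS (P : Subgroup G)
            set Y1 := omegaOne p Y
            have := hO.Y1_normal
            set W := Y1 ⊔ (A ⊓ Y)
            have hW : Y ≤ W := by
              have h3 : (A ⊓ Y).relIndex Y1 = A.relIndex Y1 := by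
                rw [← Subgroup.inf_relIndex_right (A ⊓ Y) Y1, inf_assoc,
                  inf_eq_right.2 (PushUp.omegaOne_le' : Y1 ≤ Y), Subgroup.inf_relIndex_right]
              have h4 := Subgroup.relIndex_mul_relIndex (A ⊓ Y) W Y le_sup_right
                (sup_le PushUp.omegaOne_le' inf_le_right)
              rw [PushUp.relIndex_sup_left_normal, h3, e2, Subgroup.inf_relIndex_right, e1] at h4
              exact Subgroup.relIndex_eq_one.1
                ((Nat.mul_eq_left (pow_ne_zero n hp.out.ne_zero)).1 h4)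
            obtain ⟨w, hw, h, hh, rfl⟩ := Subgroup.mem_sup_of_normal_left.1 (hW hy)
            obtain ⟨hwY, hwp⟩ := Cfsg.Agent.PushUp.omegaOne_pow (Y := Y) R.Y_comm hw
            have hcm : Commute w h := congrArg Subtype.val (R.Y_comm.1.1 ⟨w, hwY⟩ ⟨h, hh.2⟩)
            rw [hcm.mul_pow, hwp, one_mul]
            exact pow_mem hh.1 p
        exact Subgroup.mem_centralizer_iff.1 (hSJ'.ge hs).2 _ hmem
      have hYc : ∀ y ∈ yS (P : Subgroup G), y ^ p ∈ Subgroup.center G := by
        intro y hy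
        have hle : J' ≤ Subgroup.centralizer ((fun y : G => y ^ p) '' (yS (P : Subgroup G) : Set G)) := by
          intro s hs
          refine Subgroup.mem_centralizer_iff.2 ?_
          rintro _ ⟨y', hy', rfl⟩
          exact (hYp y' hy' s hs.1).eq
        have hn' : (Subgroup.centralizer ((fun y : G => y ^ p) '' (yS (P : Subgroup G) : Set G))).Normal := by
          refine ⟨fun a ha g => Subgroup.mem_centralizer_iff.2 ?_⟩
          rintro _ ⟨y', hy', rfl⟩
          have h1 := Subgroup.mem_centralizer_iff.1 ha _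
            ⟨g⁻¹ * y' * g, (by have h := (Subgroup.normalClosure_normal).conj_mem _ hy' g⁻¹; rwa [inv_inv] at h), rfl⟩
          simp only at h1
          rw [show g⁻¹ * y' * g = g⁻¹ * y' * g⁻¹⁻¹ by rw [inv_inv], conj_pow, inv_inv] at h1
          calc y' ^ p * (g * a * g⁻¹) = g * ((g⁻¹ * y' ^ p * g) * a) * g⁻¹ := by group
            _ = g * (a * (g⁻¹ * y' ^ p * g)) * g⁻¹ := by rw [h1]
            _ = g * a * g⁻¹ * y' ^ p := by group
        refine Subgroup.mem_center_iff.2 fun g => ?_
        exact (Subgroup.mem_centralizer_iff.1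
          ((Subgroup.normalClosure_le_normal (N := Subgroup.centralizer _) hle)
            (hJcl.ge (Subgroup.mem_top g))) _ ⟨y, hy, rfl⟩).symm
      have hzs : zS S = centerThompsonAOf S := by
        have := hcen S le_rfl fun A hA => hA.1
        rwa [← hJ', hSJ'] at this
      have hK : K ≤ Subgroup.center G := by
        rw [hKdef, hSJ', inducedFunctor_wV_top S (by rwa [hzs]), Subgroup.closure_le]
        rintro _ ⟨k, hk, z, hz, rfl, -⟩
        rw [show p ^ k = p * p ^ (k - 1) by rw [← pow_succ', Nat.sub_add_cancel hk], pow_mul]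
        refine pow_mem (hYc z ?_) _
        rw [hP]
        exact Subgroup.subset_normalClosure hz
      exact ⟨fun x hx g => by rwa [Subgroup.mem_center_iff.1 (hK hx) g, mul_inv_cancel_right]⟩
  exact hKtop (Subgroup.normalizer_eq_top_iff.2 hKn)

/-- The family controls transfer. -/
theorem threeFam_transfer (hodd : Odd p) (X : Type u) [Group X] [Finite X] :
    FamilyControlsTransferIn p ((fun W => inducedFunctor (G := X) W) '' threeFam p) ⊤ :=
  familyTransfer_sections_ind (isCharPFunctor_threeFam hodd) (G := X)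
    (fun K R _ _ hsub hquot => by
      obtain ⟨T⟩ : Nonempty (Sylow p (↥K ⧸ R.subgroupOf K)) := inferInstance
      exact threeFam_step hodd (sylIn_top T) hsub hquot)
    X involves_refl

end Cfsg.Agent.Fusion
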