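import Cfsg.Agent.Lib.PushUp.Fam.Main

/-!
# Members without quadratic action on the core

A member has no quadratic action when every element acting quadratically on the core modulo `Y` lies in the
core. Then every abelian normal subgroup of `S` lies in the core, and the end of a critical path cannot be
reached inside a normal subgroup which is the same at both ends.
-/

set_option autoImplicit false

open scoped commutatorElement

namespace Cfsg.Agent.PushUp

open Cfsg

universe u

variable {S : Type u} [Group S] {p : ℕ}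

/-- No element outside the core acts quadratically on the core modulo `Y`. -/
def Leg.NQ (L : Leg S p) : Prop := ∀ x : S, (∀ d ∈ L.qb, ⁅⁅d, x⁆, x⁆ ∈ L.yb) → x ∈ L.qb

theorem Leg.NQ.twist {L : Leg S p} (h : L.NQ) (σ : MulAut S) : (L.twist σ).NQ := fun x hx => by
  refine h (σ x) fun d hd => ?_
  have h1 := hx (σ.symm d) (show σ (σ.symm d) ∈ L.qb by rwa [MulEquiv.apply_symm_apply])
  change σ ⁅⁅σ.symm d, x⁆, x⁆ ∈ L.yb at h1
  rwa [map_commutatorElement, map_commutatorElement, MulEquiv.apply_symm_apply] at h1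

/-- Abelian normal subgroups lie in the core. -/
theorem Leg.NQ.le_qb {L : Leg S p} (h : L.NQ) {A : Subgroup S} [A.Normal]
    (hA : ∀ a ∈ A, ∀ b ∈ A, Commute a b) : A ≤ L.qb := fun x hx => h x fun d _ => by
  have h1 : ⁅d, x⁆ ∈ A := mul_mem (‹A.Normal›.conj_mem x hx d) (inv_mem hx)
  rw [commutatorElement_eq_one_iff_commute.2 (hA _ h1 x hx)]
  exact one_mem _

theorem Leg.NQ.yb_le_qb {L : Leg S p} (h : L.NQ) (H : Leg S p) : H.yb ≤ L.qb :=
  h.le_qb fun _ ha _ hb => H.commute_yb ha hb

namespace Fam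

variable [Finite S] {b : ℕ} {B : Leg S p → Prop}

/-- The ends of a critical path are separated by every normal subgroup containing the first `Y`. -/
theorem Crit.not_fixed (hmin : ShortPaths B b) (hb : 2 ≤ b) {d : ℕ → Dart B} (hc : Crit b d)
    (hq : (d (b - 1)).r.1.NQ) {R : Subgroup S} [R.Normal] (hR : (d 0).l.1.yb ≤ R)
    (he : R.map (bs (d 0).f) = R.map (bs (d (b - 1)).f)) : False := by
  obtain ⟨z, hz, hzQ⟩ := SetLike.not_le_iff_exists.1 hc.not_le
  obtain ⟨x, hxz⟩ := src_sh_last hmin hb hc hz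
  have hzR : z ∈ R.map (bs (d (b - 1)).f) := by
    rw [← he]
    have h1 : z ∈ (d 0).l.1.yb.map (bs (d 0).f) := by rw [← map_yI]; exact hz
    exact Subgroup.map_mono hR h1
  have hxR : x ∈ R := by
    rwa [← hxz, Subgroup.mem_map_iff_mem (bs_injective _)] at hzR
  refine hzQ ?_
  show z ∈ (qI B _).map _
  rw [map_qI]
  refine ⟨x, hq x fun t _ => ?_, hxz⟩
  have h1 : ⁅t, x⁆ ∈ R := mul_mem (‹R.Normal›.conj_mem x hxR t) (inv_mem hxR)
  have h2 : bs (d (b - 1)).f ⁅t, x⁆ ∈ sh (d 0).f :=
    Subgroup.map_le_range _ _ (he.ge ⟨_, h1, rfl⟩)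
  have e0 : revD b d (b - 1) = (d 0).rev := by
    show (d (b - 1 - (b - 1))).rev = _
    rw [Nat.sub_self]
  have e1 : revD b d 0 = (d (b - 1)).rev := by
    show (d (b - 1 - 0)).rev = _
    rw [Nat.sub_zero]
  have h3 := comm_shift hmin hb (crit_rev hmin hb hc) (x := bs (d (b - 1)).f ⁅t, x⁆) (w := z)
    (by rw [e0]; exact h2) (by rw [e0]; exact hz)
  rw [e1, ← hxz, ← map_commutatorElement] at h3
  change bs _ _ ∈ (yI B (d (b - 1)).r).map (emb (d (b - 1)).f (d (b - 1)).r) at h3
  rwa [map_yI, Subgroup.mem_map_iff_mem (bs_injective _)] at h3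

end Fam

end Cfsg.Agent.PushUp
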