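import Cfsg.Agent.Lib.Fusion.ThreeTransfer.Functor
import Cfsg.Agent.Lib.Fusion.JTildeTransfer

/-!
# Facts for the minimal group
-/

set_option autoImplicit false

open scoped commutatorElement
open Cfsg

universe u

namespace Cfsg.Agent.Fusion

open Cfsg.Agent.PushUp (maxAb cZJ zS)

variable {G : Type u} [Group G] [Finite G] {p : ℕ}

omit [Finite G] in
/-- Quadratic action of an element gives a vanishing second iterated commutator. -/
theorem iter_two_le {U W : Subgroup G} [W.Normal] {u : G} (h : ∀ a ∈ U, ⁅⁅a, u⁆, u⁆ ∈ W) :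
    iterCommutator U (Subgroup.zpowers u) 2 ≤ W := by
  set π := QuotientGroup.mk' W
  set C₀ := Subgroup.centralizer ({π u} : Set (G ⧸ W))
  have hmem : ∀ x : G, x ∈ C₀.comap π ↔ ⁅x, u⁆ ∈ W := fun x => by
    show π x ∈ C₀ ↔ _
    rw [Subgroup.mem_centralizer_singleton_iff, ← QuotientGroup.eq_one_iff, ← QuotientGroup.mk'_apply,
      map_commutatorElement, commutatorElement_eq_one_iff_mul_comm]
  have hu : u ∈ C₀.comap π := (hmem u).2 (by rw [commutatorElement_self]; exact one_mem _)
  have h1 : ⁅U, Subgroup.zpowers u⁆ ≤ C₀.comap π := Subgroup.commutator_le.2 fun a ha v hv => by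
    let D : Subgroup G :=
    { carrier := {v | v ∈ C₀.comap π ∧ ⁅a, v⁆ ∈ C₀.comap π}
      one_mem' := ⟨one_mem _, by rw [commutatorElement_one_right]; exact one_mem _⟩
      mul_mem' := fun {x y} hx hy => ⟨mul_mem hx.1 hy.1, by
        rw [show ⁅a, x * y⁆ = ⁅a, x⁆ * (x * ⁅a, y⁆ * x⁻¹) by simp only [commutatorElement_def]; group]
        exact mul_mem hx.2 (mul_mem (mul_mem hx.1 hy.2) (inv_mem hx.1))⟩
      inv_mem' := fun {x} hx => ⟨inv_mem hx.1, by
        rw [show ⁅a, x⁻¹⁆ = x⁻¹ * ⁅a, x⁆⁻¹ * x by simp only [commutatorElement_def]; group]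
        exact mul_mem (mul_mem (inv_mem hx.1) (inv_mem hx.2)) hx.1⟩ }
    have huD : u ∈ D := ⟨hu, (hmem _).2 (h a ha)⟩
    have hvD : v ∈ D := Subgroup.zpowers_le.2 huD hv
    exact hvD.2
  show ⁅⁅U, Subgroup.zpowers u⁆, Subgroup.zpowers u⁆ ≤ W
  refine Subgroup.commutator_le.2 fun x hx v hv => ?_
  rw [← QuotientGroup.eq_one_iff, ← QuotientGroup.mk'_apply, map_commutatorElement,
    commutatorElement_eq_one_iff_mul_comm]
  have h2 : π x ∈ C₀ := h1 hx
  obtain ⟨n, rfl⟩ := hv
  rw [map_zpow]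
  exact ((show Commute (π x) (π u) from Subgroup.mem_centralizer_singleton_iff.1 h2).zpow_right n).eq

/-- The action on a normal abelian subgroup of a quotient, modulo its kernel. -/
theorem exists_map_action {H : Type u} [Group H] (f : G →* H) {V : Subgroup H} [V.Normal] (hV : IsMulCommutative V)
    (C : Subgroup G) [C.Normal] (hC : C = (Subgroup.centralizer (V : Set H)).comap f) :
    letI : CommGroup V := { (inferInstance : Group V) with mul_comm := hV.1.1 }
    ∃ φ : (G ⧸ C) →* AddMonoid.End (Additive V),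
      (∀ (g : G) (v : V), ((Additive.toMul (φ (g : G ⧸ C) (Additive.ofMul v)) : V) : H) = f g * v * (f g)⁻¹) ∧
      ∀ x, (∀ v, φ x v = v) → x = 1 := by
  letI : CommGroup V := { (inferInstance : Group V) with mul_comm := hV.1.1 }
  let a : G →* AddMonoid.End (Additive V) :=
    { toFun := fun g => MonoidHom.toAdditive ((MulAut.conjNormal (f g) : MulAut V).toMonoidHom)
      map_one' := AddMonoidHom.ext fun v => by
        show Additive.ofMul ((MulAut.conjNormal (f 1) : MulAut V) (Additive.toMul v)) = v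
        rw [map_one, map_one]; rfl
      map_mul' := fun g h => AddMonoidHom.ext fun v => by
        show Additive.ofMul ((MulAut.conjNormal (f (g * h)) : MulAut V) (Additive.toMul v)) = _
        rw [map_mul, map_mul]; rfl }
  have ha : ∀ (g : G) (v : V), ((Additive.toMul (a g (Additive.ofMul v)) : V) : H) = f g * v * (f g)⁻¹ :=
    fun g v => MulAut.conjNormal_apply (f g) v
  have hker : C ≤ a.ker := fun g hg => AddMonoidHom.ext fun v => by
    refine Additive.toMul.injective (Subtype.ext ?_)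
    have hg' : f g ∈ Subgroup.centralizer (V : Set H) := by rwa [hC] at hg
    refine (ha g (Additive.toMul v)).trans ?_
    rw [← Subgroup.mem_centralizer_iff.1 hg' _ (Additive.toMul v).2, mul_inv_cancel_right]
    rfl
  refine ⟨QuotientGroup.lift C a hker, ha, fun x hx => ?_⟩
  obtain ⟨g, rfl⟩ := QuotientGroup.mk'_surjective C x
  refine (QuotientGroup.eq_one_iff g).2 ?_
  rw [hC, Subgroup.mem_comap, Subgroup.mem_centralizer_iff]
  intro v hv
  have := ha g ⟨v, hv⟩
  rw [show a g (Additive.ofMul ⟨v, hv⟩) = Additive.ofMul ⟨v, hv⟩ from hx _] at this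
  exact (eq_mul_inv_iff_mul_eq.1 (show v = f g * v * (f g)⁻¹ from this))

omit [Finite G] in
theorem exp_zS_iff (P : Subgroup G) (n : ℕ) :
    (∀ z ∈ Subgroup.center ↥P, z ^ n = 1) ↔ ∀ z ∈ zS P, z ^ n = 1 := by
  rw [show zS P = inducedFunctor (fun Q _ => Subgroup.center Q) P from (inducedFunctor_center P).symm]
  constructor
  · rintro h _ ⟨z, hz, rfl⟩
    rw [← map_pow, h z hz, map_one]
  · intro h z hz
    exact P.subtype_injective (by rw [map_pow, map_one]; exact h _ ⟨z, hz, rfl⟩)

omit [Finite G] in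
/-- The value of the functor in the second case depends only on the centre. -/
theorem inducedFunctor_wV_top (P : Subgroup G) (h : ¬ ∀ z ∈ zS P, z ^ p = 1) :
    inducedFunctor (wV p) P = Subgroup.closure {w | ∃ k : ℕ, 1 ≤ k ∧ ∃ z ∈ zS P,
      z ^ p ^ k = w ∧ ∀ z' ∈ zS P, z' ^ p ^ (k + 1) = 1} := by
  show (wV p ↥P).map P.subtype = _
  rw [wV_of_not_exp (fun h' => h ((exp_zS_iff P p).1 h')), topPow, MonoidHom.map_closure]
  congr 1
  ext w
  constructor
  · rintro ⟨_, ⟨k, hk, z, hz, rfl, h'⟩, rfl⟩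
    refine ⟨k, hk, P.subtype z, ?_, (map_pow _ z _).symm, (exp_zS_iff P _).1 h'⟩
    rw [zS, ← inducedFunctor_center]
    exact ⟨z, hz, rfl⟩
  · rintro ⟨k, hk, z, hz, rfl, h'⟩
    rw [zS, ← inducedFunctor_center] at hz
    obtain ⟨y, hy, rfl⟩ := hz
    exact ⟨y ^ p ^ k, ⟨k, hk, y, hy, rfl, (exp_zS_iff P _).2 h'⟩, map_pow _ y _⟩

variable [hp : Fact p.Prime]

/-- An element of the Sylow subgroup centralized by a group modulo central `p`-elements is central. -/
theorem central_of_comm_mem {S : Subgroup G} (hS : SylIn p S ⊤) {N : Subgroup G} (hN : N ≤ Subgroup.center G)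
    (hNp : IsPGroup p N) {z : G} (hzS : ∀ s ∈ S, ⁅s, z⁆ = 1) (h : ∀ g : G, ⁅g, z⁆ ∈ N) : z ∈ Subgroup.center G := by
  let f : G →* N :=
    { toFun := fun g => ⟨⁅g, z⁆, h g⟩
      map_one' := Subtype.ext (commutatorElement_one_left z)
      map_mul' := fun a b => Subtype.ext (by
        show ⁅a * b, z⁆ = ⁅a, z⁆ * ⁅b, z⁆
        rw [show ⁅a * b, z⁆ = a * ⁅b, z⁆ * a⁻¹ * ⁅a, z⁆ by simp only [commutatorElement_def]; group,
          Subgroup.mem_center_iff.1 (hN (h b)) a, mul_inv_cancel_right]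
        exact ((Subgroup.mem_center_iff.1 (hN (h b))) _).symm) }
  have h1 : S ≤ f.ker := fun s hs => Subtype.ext (hzS s hs)
  obtain ⟨j, hj⟩ := IsPGroup.iff_card.1 (hNp.to_subgroup f.range)
  have h2 : f.ker.index ∣ S.index := Subgroup.index_dvd_of_le h1
  have h3 : f.ker.index = 1 := by
    rw [Subgroup.index_ker, hj] at h2 ⊢
    rcases j with _ | j
    · rfl
    · exact absurd ((dvd_pow_self p (Nat.succ_ne_zero j)).trans h2)
        (by rw [← Subgroup.relIndex_top_right]; exact hS.not_dvd)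
  refine Subgroup.mem_center_iff.2 fun g => ?_
  exact commutatorElement_eq_one_iff_mul_comm.1
    (congrArg Subtype.val ((Subgroup.index_eq_one.1 h3).ge (Subgroup.mem_top g) : f g = 1))

/-- Elements centralizing modulo central elements of exponent `p` are in a normal subgroup containing a Sylow
subgroup of them. -/
theorem mem_of_comm_central {S C C' : Subgroup G} (hS : SylIn p (S ⊓ C') C') (hC : C.Normal) (hCC : C ≤ C')
    (hSC : S ⊓ C' ≤ C) (hpow : ∀ g ∈ C', g ^ p ∈ C) : C' ≤ C := by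
  intro g hg
  set m := C.relIndex C'
  have hm : g ^ m ∈ C := by
    have : (C.subgroupOf C').Normal := hC.subgroupOf C'
    have h1 : (QuotientGroup.mk' (C.subgroupOf C') ⟨g, hg⟩) ^ (C.subgroupOf C').index = 1 := by
      rw [Subgroup.index_eq_card]
      exact pow_card_eq_one'
    rw [← map_pow] at h1
    have h2 := (QuotientGroup.eq_one_iff _).1 h1
    rw [Subgroup.mem_subgroupOf, SubmonoidClass.coe_pow] at h2
    exact h2
  have hcop : Nat.Coprime p m := (Nat.Prime.coprime_iff_not_dvd hp.out).2 fun hd =>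
    hS.not_dvd (hd.trans (Subgroup.relIndex_dvd_of_le_left _ hSC))
  have hgcd := Nat.gcd_eq_gcd_ab p m
  rw [hcop.gcd_eq_one, Nat.cast_one] at hgcd
  have : g = (g ^ p) ^ Nat.gcdA p m * (g ^ m) ^ Nat.gcdB p m := by
    rw [← zpow_natCast, ← zpow_natCast, ← zpow_mul, ← zpow_mul, ← zpow_add, ← hgcd, zpow_one]
  rw [this]
  exact mul_mem (zpow_mem (hpow g hg) _) (zpow_mem hm _)

end Cfsg.Agent.Fusion
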